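import Cfsg.Agent.H720.RowsNeg_m3
import Cfsg.Agent.H720.RowDef
import Cfsg.Agent.H296.FFourFix
import Cfsg.Agent.H711.Crit_m3
import Cfsg.Agent.H67.SzOdd
import Cfsg.Agent.S1156
import Cfsg.Agent.FastGrp
import Cfsg.Agent.Prune
set_option linter.all false

section
prune_inst 0x7f00000000000000000000000000000000000000000000000000000000000000000000000000000000000000000000000000000000000000000000000000000000000000000000000000000000000000003fffffffffffffffffffffffffffbeffbdffffffff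

-- part: H501/RowTwF
section
set_option linter.all false
open scoped Cfsg.Agent.FastGrp

/-!
# Table T(S, p), `S = ²F₄(q)`

Every odd prime `r` dividing `|²F₄(q)|`: there is an element of order `r` inverted by a 2-element.
-/

set_option autoImplicit false
set_option linter.unusedSectionVars false

namespace Cfsg.Agent.H501.RowTwF

open CoxeterSystem Subgroup Cfsg Cfsg.Lie Cfsg.Lie.ChevalleyDatum
open Cfsg.Agent.ChevalleyStructure Cfsg.Agent.ChevalleyStructure.Elts Cfsg.Agent.ChevalleyStructure.CoxeterGeom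
  Cfsg.Agent.ChevalleyStructure.CoxeterGeomTypes Cfsg.Agent.ChevalleyStructure.NPerm
open Cfsg.Agent.Tits.Roots Cfsg.Agent.Tits.Core Cfsg.Agent.Nodes Cfsg.Agent.Nodes.Reps Cfsg.Agent.Nodes.BNOf
  Cfsg.Agent.Nodes.RGDChev Cfsg.Agent.Nodes.Bruhat Cfsg.Agent.Nodes.SubComb Cfsg.Agent.Nodes.Coroot
open Cfsg.Agent.KFacts.RgdField Cfsg.Agent.KFacts.RgdChevCoord Cfsg.Agent.BpExc.TorCent Cfsg.Agent.BpExc.TorChev
open Cfsg.Agent.GpExc.Field Cfsg.Agent.BpExc.Tow Cfsg.Agent.BpExc.TowChev Cfsg.Agent.BpExc.Fr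
  Cfsg.Agent.BpExc.LangFr Cfsg.Agent.LangThm Cfsg.Agent.BpExc Cfsg.Agent.H129.TorusChar Cfsg.Agent.H129.TorusCent
  Cfsg.Agent.H129.TorusTw Cfsg.Agent.H129.TorusMain Cfsg.Agent.H720.TorusReal
  Cfsg.Agent.H722.RealP Cfsg.Agent.H720.RowDef
open Cfsg.Agent.H79.SimpleGen (xS nS nS_def)
open Cfsg.Agent.H296.FFour (hp4 br la tab al al_xS fld_xS phi_xS al_phi_sq lang4 sg sg_xS ext4 fix_le le_fix tab2)

universe u v

section Al

variable {K : Type v} [Field K] [CharP K 2] [PerfectRing K 2]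

theorem al_nS {r : ℕ} (hr : r < 48) (t : K) :
    al K (nS hp4.inList r t) = nS hp4.inList (br r) (t ^ la r) := by
  obtain ⟨-, -, h1, h2, h3, -⟩ := tab2 r hr
  rw [nS_def, nS_def, map_mul, map_mul, al_xS hr, al_xS h3, h1, h2]
  rw [CharTwo.neg_eq, CharTwo.neg_eq, inv_pow]

/-- `al` preserves the torus -/
theorem al_TT : ∀ s ∈ TT chevF4 K, al K s ∈ TT chevF4 K := by
  have h1 : chevF4.diagonalSubgroup K ≤ ((TT chevF4 K).comap (al K).toMonoidHom).map (chevF4.group K).subtype := by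
    refine (diagonal_le_iff hp4.inList _).2 fun r hr t ht => ?_
    refine ⟨nS hp4.inList r t * nS hp4.inList r (-1), ?_, ?_⟩
    · show al K (nS hp4.inList r t * nS hp4.inList r (-1)) ∈ TT chevF4 K
      have hr' : r < 48 := hr
      rw [map_mul, al_nS hr', al_nS hr', CharTwo.neg_eq, one_pow, Subgroup.mem_subgroupOf]
      show nG hp4.inList (br r) (t ^ la r) * nG hp4.inList (br r) 1 ∈ _
      have h2 : nG hp4.inList (br r) (1 : K) = nG hp4.inList (br r) (-1) := by rw [CharTwo.neg_eq]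
      rw [h2, ← hG_def]
      exact hG_mem_diagonal hp4.inList (tab r hr').1 (pow_ne_zero _ ht)
    · rw [hG_def]
      rfl
  intro s hs
  obtain ⟨s', hs', e⟩ := h1 hs
  have e' : s' = s := Subtype.ext e
  rw [← e']
  exact hs'

end Al

section Main

variable {F : Type u} [Field F] [Fintype F] [CharP F 2] [PerfectRing F 2] {k : Type u} [Field k] [CharP k 2]
  [IsAlgClosed k] [PerfectRing k 2]

local notation "phiA" => Cfsg.Agent.BpExc.FamUntw.phi chevF4

local notation "phiB" => Cfsg.Agent.H129.TorusUntw.phi chevF4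

/-- the two Frobenius automorphisms agree -/
theorem phi_eq_phi [Fact (Nat.Prime 2)] (m : ℕ) : phiA k 2 m = phiB k 2 m := by
  refine Cfsg.Agent.H296.FFour.aut_ext4 _ _ fun r _ t => ?_
  rw [phi_xS]
  apply Subtype.ext
  rw [Cfsg.Agent.H129.TorusUntw.coe_phi]
  exact (glMap_xG hp4.inList (iterateFrobenius k 2 m) r t).symm

theorem emb_xS (f : F →+* k) (r : ℕ) (t : F) : emb hp4.inList f (xS hp4.inList r t) = xS hp4.inList r (f t) := by
  apply Subtype.ext
  rw [coe_emb]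
  exact glMap_xG hp4.inList f r t

/-- the automorphism of `Y` and the standard automorphism of the finite group -/
theorem nat_sg [Fact (Nat.Prime 2)] (f : F →+* k) {m : ℕ} {τ : F ≃+* F} (hτ : ∀ a, τ a = a ^ 2 ^ m)
    (a : ↥(chevF4.group F)) : (al k * phiA k 2 m) (emb hp4.inList f a) = emb hp4.inList f (sg τ a) := by
  have h1 : ((al k * phiA k 2 m : MulAut _).toMonoidHom.comp (emb hp4.inList f)) =
      (emb hp4.inList f).comp (sg τ).toMonoidHom := by
    apply ext4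
    intro r hr t
    show al k (phiA k 2 m (emb hp4.inList f (xS hp4.inList r t))) = emb hp4.inList f (sg τ (xS hp4.inList r t))
    rw [emb_xS, phi_xS, al_xS hr, sg_xS τ hr, emb_xS, hτ, map_pow, map_pow]
  exact DFunLike.congr_fun h1 a

/-- **Real elements of `²F₄(q)`.** -/
theorem hasReal {F : Type u} [Field F] [Fintype F] {m : ℕ} (hF : Fintype.card F = 2 ^ (2 * m + 1)) {r : ℕ}
    (hr : r.Prime) (hr2 : r ≠ 2) (hrG : r ∣ Nat.card ↥(twistedF4 F (2 ^ m))) :
    HasReal r ↥(twistedF4 F (2 ^ m)) := by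
  have hf2 : Fact (Nat.Prime 2) := ⟨Nat.prime_two⟩
  have hrf : Fact r.Prime := ⟨hr⟩
  have hF2 : CharP F 2 := by
    obtain ⟨p, hp⟩ := CharP.exists F
    have : Fact p.Prime := ⟨CharP.char_is_prime F p⟩
    obtain ⟨n, h1, h2⟩ := FiniteField.card F p
    rw [hF] at h2
    have h3 : p ∣ 2 ^ (2 * m + 1) := by rw [h2]; exact dvd_pow_self p n.ne_zero
    have h4 := (Nat.prime_dvd_prime_iff_eq h1 Nat.prime_two).1 (h1.dvd_of_dvd_pow h3)
    rwa [h4] at hp
  have hPF : PerfectRing F 2 := inferInstance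
  have h1 := Cfsg.Agent.H296.Core.charP_closure F 2
  have hk := Cfsg.Agent.H296.Core.locFin_closure F 2
  have hPk : PerfectRing (AlgebraicClosure F) 2 := inferInstance
  have hA : Cfsg.Agent.BpExc.TorAll.HAlg 2 (AlgebraicClosure F) := Cfsg.Agent.H944.RootVals.hAlg_closure 2 F
  set k := AlgebraicClosure F
  let f : F →+* k := algebraMap F k
  have cs := CoxeterMatrix.F₄.toCoxeterSystem
  have : Finite CoxeterMatrix.F₄.Group := finite_W hp4 cs
  obtain ⟨w₀, hw₀⟩ := Cfsg.Agent.H720.RowsNeg.exists_neg Cfsg.Agent.H130.WeylTab.lists_F4 cs hp4.isCartan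
    [0, 1, 2, 3] 6 (by decide +kernel)
  have hN := Cfsg.Agent.H129.TorusUntw.nsys_of_locFin hp4 cs hk 2
  set σ : MulAut ↥(chevF4.group k) := al k * phiA k 2 m with hσ
  have hFr : Fr cs hp4.isCartan (TT chevF4 k) (XX chevF4 4 k) (phiB k 2 (2 * m + 1))
      (AddEquiv.refl (Fin 4 → ℤ)) := Cfsg.Agent.H129.TorusUntw.fr_phi hp4 cs
  have hFr' : Fr cs hp4.isCartan (TT chevF4 k) (XX chevF4 4 k) (phiB k 2 m)
      (AddEquiv.refl (Fin 4 → ℤ)) := Cfsg.Agent.H129.TorusUntw.fr_phi hp4 cs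
  have hσσ : ∀ y, σ (σ y) = phiB k 2 (2 * m + 1) y := by
    intro y
    rw [← phi_eq_phi, ← al_phi_sq]
    rfl
  have hT : ∀ s ∈ TT chevF4 k, σ s ∈ TT chevF4 k := by
    intro s hs
    refine al_TT _ ?_
    rw [phi_eq_phi]
    exact (hFr'.tor s).2 hs
  have hT' : ∀ s, σ s ∈ TT chevF4 k → s ∈ TT chevF4 k := by
    intro s hs
    have h2 := hT _ hs
    rw [hσσ] at h2
    exact (hFr.tor s).1 h2
  have hsq : ∀ s ∈ TT chevF4 k, σ (σ s) = s ^ 2 ^ (2 * m + 1) := by
    intro s hs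
    rw [hσσ]
    refine cX_inj hp4 ((hFr.tor s).2 hs) (pow_mem hs _) fun i => ?_
    rw [cX_pow hp4 hs]
    exact cX_sigma hp4 cs Cfsg.Agent.H129.TorusUntw.isFrob_phi hFr hs (sr i)
  obtain ⟨τ, hτ⟩ : ∃ τ : F ≃+* F, ∀ a, τ a = a ^ 2 ^ m :=
    ⟨iterateFrobeniusEquiv F 2 m, fun a => by rw [iterateFrobeniusEquiv_def]⟩
  -- an element of order `r`
  have hfin : Finite ↥(twistedF4 F (2 ^ m)) := inferInstance
  obtain ⟨g, hg⟩ := exists_prime_orderOf_dvd_card' r hrG
  obtain ⟨a, ha, hfa⟩ := le_fix hF hτ g.2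
  have hoa : orderOf a = r := by
    rw [← hg, ← Subgroup.orderOf_coe a, ha, Subgroup.orderOf_coe]
  have hinj := emb_injective hp4.inList f
  have hox : orderOf (emb hp4.inList f a) = r := by rw [orderOf_injective _ hinj, hoa]
  obtain ⟨x, y, hx, hσx, hσy, hyx⟩ := Cfsg.Agent.H501.TwReal.exists_real hp4 cs hA hk hN
    invC_F4 one_ne_zero hT hT' (N := 2 ^ (2 * m + 1))
    (Nat.one_lt_pow (by omega) (by norm_num)) hsq (lang4 m) hw₀ (x := emb hp4.inList f a)
    (by rw [hσ, nat_sg f hτ, hfa]) hr.ne_zero ((Nat.coprime_primes hr Nat.prime_two).2 hr2)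
    (by rw [← hox]; exact pow_orderOf_eq_one _)
  have hdesc : ∀ y : ↥(chevF4.group k), σ y = y → ∃ b : ↥(chevF4.group F), emb hp4.inList f b = y ∧
      (b : GL chevF4.Idx F) ∈ twistedF4 F (2 ^ m) := by
    intro y hy
    have h2 : phiB k 2 (2 * m + 1) y = y := by rw [← hσσ, hy, hy]
    obtain ⟨b, hb⟩ := Cfsg.Agent.H129.TorusUntw.fix_range hp4 cs f hF invC_F4 one_ne_zero
      (fun a => ⟨a, pow_one a⟩) h2
    refine ⟨b, hb, fix_le hF hτ ?_⟩
    apply hinj
    rw [← nat_sg f hτ, hb]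
    exact hy
  obtain ⟨b, hb, hbT⟩ := hdesc x hσx
  obtain ⟨c, hc, hcT⟩ := hdesc y hσy
  have hcb : c * b * c⁻¹ = b⁻¹ := by
    apply hinj
    rw [map_mul, map_mul, map_inv, map_inv, hb, hc, hyx]
  refine hasReal_of_isConj (x := (⟨b, hbT⟩ : ↥(twistedF4 F (2 ^ m)))) ?_ (isConj_iff.2 ⟨⟨c, hcT⟩, ?_⟩)
  · rw [Subgroup.orderOf_mk, Subgroup.orderOf_coe, ← orderOf_injective _ hinj, hb, hx, hox]
  · apply Subtype.ext
    show (c : GL chevF4.Idx F) * (b : GL chevF4.Idx F) * (c : GL chevF4.Idx F)⁻¹ = (b : GL chevF4.Idx F)⁻¹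
    exact congrArg Subtype.val hcb

/-- **The row `²F₄(q)` of the table.** -/
theorem row_2F4 {G : Type*} [Group G] (h : Lie.Iso2F4 G) {r : ℕ} (hr : r.Prime) (hr2 : r ≠ 2)
    (hd : r ∣ Nat.card G) : HasReal r G := by
  obtain ⟨K, _, _, m, -, hK, ⟨e⟩⟩ := h
  refine hasReal_congr e.symm (hasReal hK hr hr2 ?_)
  rwa [← Nat.card_congr e.toEquiv]

end Main

end Cfsg.Agent.H501.RowTwF
end

-- part: H507/GmnTwF
section
set_option linter.all false
open scoped Cfsg.Agent.FastGrp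

/-!
# Real elements of `²F₄(q)` (GMN table, helper507)

* `lang_end` : Lang–Steinberg for an automorphism of `D.group k` a power of which is `g ↦ J * frob g * J⁻¹`, and a
  group generated by root groups;
* `real_all` : `Y = D.group k`, `σ` an automorphism preserving the torus, `σ²` the `N`-th power map on the torus,
  Lang's theorem for the groups generated by the root groups centralising a toral element: every `p'`-element of `Y^σ`
  is inverted by an element of `Y^σ`, if `-1` is in the Weyl group;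
* `isConj_inv` : every element of odd order of `²F₄(q)` is real;
* `rowS_2F4`, `rowS_suzuki`, `rowS_ree`.
-/

set_option autoImplicit false
set_option linter.unusedSectionVars false

namespace Cfsg.Agent.H507.GmnTwF

open CoxeterSystem Subgroup Cfsg Cfsg.Lie Cfsg.Lie.ChevalleyDatum
open Cfsg.Agent.ChevalleyStructure Cfsg.Agent.ChevalleyStructure.Elts Cfsg.Agent.ChevalleyStructure.CoxeterGeom
  Cfsg.Agent.ChevalleyStructure.CoxeterGeomTypes Cfsg.Agent.ChevalleyStructure.NPerm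
open Cfsg.Agent.Tits.Roots Cfsg.Agent.Tits.Core Cfsg.Agent.Nodes Cfsg.Agent.Nodes.Reps Cfsg.Agent.Nodes.BNOf
  Cfsg.Agent.Nodes.RGDChev Cfsg.Agent.Nodes.Bruhat Cfsg.Agent.Nodes.SubComb Cfsg.Agent.Nodes.Coroot
open Cfsg.Agent.KFacts.RgdField Cfsg.Agent.KFacts.RgdChevCoord Cfsg.Agent.BpExc.TorCent Cfsg.Agent.BpExc.TorChev
open Cfsg.Agent.GpExc.Field Cfsg.Agent.BpExc.Tow Cfsg.Agent.BpExc.TowChev Cfsg.Agent.BpExc.Fr
  Cfsg.Agent.BpExc.LangFr Cfsg.Agent.BpExc Cfsg.Agent.H129.TorusChar Cfsg.Agent.H129.TorusCent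
  Cfsg.Agent.H129.TorusTw Cfsg.Agent.H129.TorusMain Cfsg.Agent.H720.TorusReal
  Cfsg.Agent.H722.RealP Cfsg.Agent.H720.RowDef Cfsg.Agent.H501.TwReal Cfsg.Agent.H501.RowTwF
open Cfsg.Agent.H79.SimpleGen (xS nS nS_def)
open Cfsg.Agent.H296.FFour (hp4 br la tab al al_xS fld_xS phi_xS al_phi_sq lang4 sg sg_xS ext4 fix_le le_fix tab2)

universe u v

section Lang

variable {D : ChevalleyDatum} {l : ℕ} {M : CoxeterMatrix (Fin l)} (hp : IsType D l M) {k : Type u} [Field k]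

open Cfsg.Agent.LangThm in
/-- **Lang–Steinberg**, a power of `α` is a Frobenius map. -/
theorem lang_end [IsAlgClosed k] (p e N : ℕ) [Fact p.Prime] [CharP k p] (he : 0 < e) (S : Set ℕ)
    (α : MulAut ↥(D.group k)) (J : GL D.Idx k)
    (hJ : ∀ g, ((α ^ N) g : GL D.Idx k) = J * frob p e (g : GL D.Idx k) * J⁻¹)
    (hS : ∀ r ∈ S, ∃ s ∈ S, ∃ P : Polynomial k, ∀ a,
      (α (xS hp.inList r a) : GL D.Idx k) = xG hp.inList s (P.eval a))
    {c : ↥(D.group k)} (hc : (c : GL D.Idx k) ∈ LangThm.MM hp.inList S k) :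
    ∃ z : ↥(D.group k), (z : GL D.Idx k) ∈ LangThm.MM hp.inList S k ∧ c = z⁻¹ * α z := by
  let X : S → GL D.Idx (Polynomial k) := fun r => xP hp.inList (r : ℕ) Polynomial.X
  have h2 : Gam X k = LangThm.MM hp.inList S k := gam_eq hp.inList S
  have hle : Gam X k ≤ D.group k := by
    rw [h2]
    refine (closure_le _).2 ?_
    rintro _ ⟨r, -, t, rfl⟩
    exact xG_mem_group hp.inList r t
  have hmem : ∀ g (hg : g ∈ Gam X k), (α ⟨g, hle hg⟩ : GL D.Idx k) ∈ Gam X k := by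
    intro g hg
    have hg' : g ∈ LangThm.MM hp.inList S k := by rw [← h2]; exact hg
    have key : ∀ g (hg : g ∈ LangThm.MM hp.inList S k), (α ⟨g, hle (h2 ▸ hg)⟩ : GL D.Idx k) ∈ Gam X k := by
      intro g hg
      induction hg using Subgroup.closure_induction with
      | mem g hg =>
        obtain ⟨r, hr, t, rfl⟩ := hg
        obtain ⟨s, hs, P, hP⟩ := hS r hr
        have h3 := hP t
        have h4 : (α (xS hp.inList r t) : GL D.Idx k) ∈ Gam X k := by
          rw [h3, h2]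
          exact Subgroup.subset_closure ⟨s, hs, _, rfl⟩
        exact h4
      | one =>
        have h3 : (⟨1, one_mem _⟩ : ↥(D.group k)) = 1 := rfl
        have h4 : α (⟨1, one_mem _⟩ : ↥(D.group k)) = 1 := by rw [h3, map_one]
        show (α (⟨1, one_mem _⟩ : ↥(D.group k)) : GL D.Idx k) ∈ Gam X k
        rw [h4]
        exact one_mem _
      | mul g h hg hh ihg ihh =>
        have e1 : α (⟨g * h, hle (h2 ▸ mul_mem hg hh)⟩ : ↥(D.group k)) =
            α ⟨g, hle (h2 ▸ hg)⟩ * α ⟨h, hle (h2 ▸ hh)⟩ := by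
          rw [← map_mul]
          rfl
        show (α (⟨g * h, hle (h2 ▸ mul_mem hg hh)⟩ : ↥(D.group k)) : GL D.Idx k) ∈ Gam X k
        rw [e1]
        exact mul_mem ihg ihh
      | inv g hg ihg =>
        have e1 : α (⟨g⁻¹, hle (h2 ▸ inv_mem hg)⟩ : ↥(D.group k)) = (α ⟨g, hle (h2 ▸ hg)⟩)⁻¹ := by
          rw [← map_inv]
          rfl
        show (α (⟨g⁻¹, hle (h2 ▸ inv_mem hg)⟩ : ↥(D.group k)) : GL D.Idx k) ∈ Gam X k
        rw [e1]
        exact inv_mem ihg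
    exact key g hg'
  let F : Monoid.End ↥(Gam X k) :=
    { toFun := fun g => ⟨(α ⟨g, hle g.2⟩ : GL D.Idx k), hmem g g.2⟩
      map_one' := Subtype.ext (by
        have h4 : α (⟨1, one_mem _⟩ : ↥(D.group k)) = 1 := map_one α
        show (α (⟨1, one_mem _⟩ : ↥(D.group k)) : GL D.Idx k) = 1
        rw [h4]
        rfl)
      map_mul' := fun g h => Subtype.ext (by
        have e1 : α (⟨(g : GL D.Idx k) * h, hle (mul_mem g.2 h.2)⟩ : ↥(D.group k)) =
            α ⟨g, hle g.2⟩ * α ⟨h, hle h.2⟩ := by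
          rw [← map_mul]
          rfl
        show (α (⟨(g : GL D.Idx k) * h, hle (mul_mem g.2 h.2)⟩ : ↥(D.group k)) : GL D.Idx k) = _
        rw [e1]
        rfl) }
  have hFc : ∀ g : ↥(Gam X k), ((F g : ↥(Gam X k)) : GL D.Idx k) = (α ⟨g, hle g.2⟩ : GL D.Idx k) := fun g => rfl
  have hFn : ∀ (n : ℕ) (g : ↥(Gam X k)), (((F ^ n) g : ↥(Gam X k)) : GL D.Idx k) =
      ((α ^ n) ⟨g, hle g.2⟩ : GL D.Idx k) := by
    intro n
    induction n with
    | zero => intro g; rfl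
    | succ n ih =>
      intro g
      have e1 : (F ^ (n + 1)) g = F ((F ^ n) g) := by rw [pow_succ']; rfl
      have e2 : (α ^ (n + 1)) (⟨g, hle g.2⟩ : ↥(D.group k)) = α ((α ^ n) ⟨g, hle g.2⟩) := by rw [pow_succ']; rfl
      rw [e1, hFc, e2]
      congr 2
      exact Subtype.ext (ih g)
  have hX0 : ∀ i, ev (0 : k) (X i) = 1 := by
    intro i
    rw [ev_xP, Polynomial.eval_X, xG_zero]
  have hs : ∀ r : S, ∃ s : S, ∃ P : Polynomial k, ∀ a,
      (α (xS hp.inList r a) : GL D.Idx k) = xG hp.inList s (P.eval a) := by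
    intro r
    obtain ⟨s, hs, c, hc⟩ := hS r r.2
    exact ⟨⟨s, hs⟩, c, hc⟩
  choose ρ P hP using hs
  have hF : ∀ (r : S) (a : k), (F ⟨ev a (X r), ev_mem r a⟩ : GL D.Idx k) =
      ev a (ev (P r) (X (ρ r)) : GL D.Idx (Polynomial k)) := by
    intro r a
    have e1 : (⟨ev a (X r), hle (ev_mem r a)⟩ : ↥(D.group k)) = xS hp.inList r a := by
      apply Subtype.ext
      show ev a (X r) = _
      rw [ev_xP, Polynomial.eval_X]
      rfl
    rw [hFc]
    show (α (⟨ev a (X r), hle (ev_mem r a)⟩ : ↥(D.group k)) : GL D.Idx k) = _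
    rw [e1, hP]
    have h1 := mp_ev (Polynomial.aeval a : Polynomial k →ₐ[k] k) (P r) (X (ρ r))
    have h3 : ev a (ev (P r) (X (ρ r))) = ev ((P r).eval a) (X (ρ r)) := by
      rw [show (P r).eval a = Polynomial.aeval a (P r) by simp [Polynomial.aeval_def]]
      exact h1
    rw [h3, ev_xP, Polynomial.eval_X]
  have hc' : (c : GL D.Idx k) ∈ Gam X k := by rw [h2]; exact hc
  obtain ⟨z, hz⟩ := lang (X := X) p e N he hX0 F (Y := fun r => ev (P r) (X (ρ r))) (fun i => ev_mem _ _) hF J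
    (fun g => by rw [hFn, hJ]) ⟨c, hc'⟩
  refine ⟨⟨z, hle z.2⟩, by rw [← h2]; exact z.2, ?_⟩
  apply Subtype.ext
  have h3 := congrArg Subtype.val hz
  rw [Subgroup.coe_mul, Subgroup.coe_inv, hFc] at h3
  rw [Subgroup.coe_mul, Subgroup.coe_inv]
  exact h3

end Lang

section Real

variable {D : ChevalleyDatum} {l : ℕ} {M : CoxeterMatrix (Fin l)} (hp : IsType D l M) {k : Type u} [Field k]
  {W : Type*} [Group W] (cs : CoxeterSystem M W) {p : ℕ} [Fact p.Prime] [CharP k p] {σ : MulAut ↥(D.group k)}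

/-- **Real elements of `Y^σ`.** -/
theorem real_all [IsAlgClosed k] [Finite W] (hA : Cfsg.Agent.BpExc.TorAll.HAlg p k) (hk : LocFin k)
    (hN : NSys M (TT D k) (nc hp k)) {d' : ℕ} {B' : Fin l → Fin l → ℤ} (hB : InvC D l d' B')
    (hd' : d' ≠ 0) (hT : ∀ s ∈ TT D k, σ s ∈ TT D k) (hT' : ∀ s, σ s ∈ TT D k → s ∈ TT D k) {N : ℕ} (h1N : 1 < N)
    (hsq : ∀ s ∈ TT D k, σ (σ s) = s ^ N)
    (hlang : ∀ (w : W) (n t : ↥(D.group k)), Rp cs hN w n → t ∈ TT D k → n * σ t * n⁻¹ = t →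
      ∀ m ∈ BpExc.TorCent.MM cs hp.isCartan (XX D l k) (ch hp) t,
        ∃ u, u * t = t * u ∧ m = u⁻¹ * (n * σ u * n⁻¹))
    {w₀ : W} (hneg : ∀ x, rep cs hp.isCartan w₀ x = -x) {x : ↥(D.group k)}
    (hx : σ x = x) {m : ℕ} (hm : m ≠ 0) (hmp : m.Coprime p) (hxm : x ^ m = 1) :
    ∃ y : ↥(D.group k), σ y = y ∧ y * x * y⁻¹ = x⁻¹ := by
  obtain ⟨y₀, hy₀⟩ := H944.TorAnyChev.exists_conj_mem_TT hp p hA hm hmp hxm
  set! t := y₀ * x * y₀⁻¹ with htdef; rewrite [← htdef] at hy₀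
  have ht : t ∈ TT D k := hy₀
  have hσt : σ t ∈ TT D k := hT t ht
  have h1 : (y₀ * (σ y₀)⁻¹) * σ t = t * (y₀ * (σ y₀)⁻¹) := by
    rw [htdef, map_mul, map_mul, map_inv, hx]
    group
  have H := tow hp cs hk p
  have C := coordsL hp cs hk p
  have C0 := C
  rw [← TL_eq hp hk, ← XL_eq hp hk] at C
  have ht' : t ∈ TL (Tj hp (k := k)) := by rw [TL_eq hp hk]; exact ht
  have hσt' : σ t ∈ TL (Tj hp (k := k)) := by rw [TL_eq hp hk]; exact hσt
  have hcG : y₀ * (σ y₀)⁻¹ ∈ GG cs hp.isCartan (TL (Tj hp (k := k))) (XL (Xj hp)) := by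
    rw [GG_eq_top hp cs hk]; exact Subgroup.mem_top _
  obtain ⟨m', hm', w, n, hn, hnt, hmn⟩ := BpExc.Fr.exists_form H C hσt' ht' hcG h1
  have hn' : Rp cs hN w n := by
    have key : ∀ (T : Subgroup ↥(D.group k)) (h1 : NSys M T (nc hp k)) (h2 : T = TT D k), Rp cs h1 w n →
        Rp cs hN w n := by
      intro T h1 h2 h3
      subst h2
      exact h3
    exact key _ _ (TL_eq hp hk) hn
  rw [XL_eq hp hk] at hm'
  have hnσ : n * σ t * n⁻¹ = t := by rw [hnt]; group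
  -- adjust
  obtain ⟨u, hut, hu⟩ := hlang w n t hn' ht hnσ m' hm'
  set! y := u * y₀ with hydef
  have hyx : y * x * y⁻¹ = t := by
    calc y * x * y⁻¹ = u * (y₀ * x * y₀⁻¹) * u⁻¹ := by rw [hydef]; group
      _ = u * t * u⁻¹ := by rw [← htdef]
      _ = t := by rw [hut]; group
  have hyn : y * (σ y)⁻¹ = n := by
    calc y * (σ y)⁻¹ = u * (y₀ * (σ y₀)⁻¹) * (σ u)⁻¹ := by rw [hydef, map_mul]; group
      _ = u * (m' * n) * (σ u)⁻¹ := by rw [hmn]
      _ = n := by rw [hu]; group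
  -- the inverting element
  obtain ⟨v, hv⟩ := exists_rp cs hN w₀
  have hvt : ∀ s ∈ TT D k, v * s * v⁻¹ = s⁻¹ := fun s hs => conj_neg hp cs hk p hneg hv hs
  -- `α = conj n ∘ σ`
  set! α : MulAut ↥(D.group k) := MulAut.conj n * σ with hα
  have hαn : ∀ y, α y = n * σ y * n⁻¹ := fun y => rfl
  have hnn : ∀ s, n * s * n⁻¹ ∈ TT D k ↔ s ∈ TT D k := fun s =>
    (Subgroup.mem_normalizer_iff.1 hn'.mem_normalizer s).symm
  have hαT : ∀ s ∈ TT D k, α s ∈ TT D k := fun s hs => (hnn _).2 (hT s hs)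
  have hαT' : ∀ s, α s ∈ TT D k → s ∈ TT D k := fun s hs => hT' s ((hnn _).1 hs)
  -- a power of `α` is a power map
  set! b := n * σ n with hb
  have hα2 : ∀ s ∈ TT D k, α (α s) = b * s ^ N * b⁻¹ := by
    intro s hs
    rw [hαn, hαn, map_mul, map_mul, map_inv, hsq s hs, hb]
    group
  have hbT : ∀ s ∈ TT D k, b * s * b⁻¹ ∈ TT D k := by
    intro s hs
    obtain ⟨r, hr⟩ := σ.surjective s
    have hr' : r ∈ TT D k := hT' r (by rw [hr]; exact hs)
    have e1 : b * s * b⁻¹ = α (n * r * n⁻¹) := by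
      rw [hαn, map_mul, map_mul, map_inv, hr, hb]
      group
    rw [e1]
    exact hαT _ ((hnn r).2 hr')
  obtain ⟨w₂, hw₂⟩ := exists_rp_of_normalizer hp cs hk p hN hB hd' hbT
  obtain ⟨M', hM', hwM⟩ := (isOfFinOrder_of_finite w₂).exists_pow_eq_one
  have hRpow : ∀ j : ℕ, Rp cs hN (w₂ ^ j) (b ^ j) := by
    intro j
    induction j with
    | zero => rw [pow_zero, pow_zero]; exact rp_one
    | succ j ih => rw [pow_succ, pow_succ]; exact ih.mul hw₂
  have hbM : b ^ M' ∈ TT D k := by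
    have h2 := hRpow M'
    rw [hwM] at h2
    exact h2.mem_of_one
  have hbj : ∀ j : ℕ, ∀ s ∈ TT D k, b ^ j * s * (b ^ j)⁻¹ ∈ TT D k := fun j s hs =>
    (Subgroup.mem_normalizer_iff.1 (hRpow j).mem_normalizer s).1 hs
  have hpow2 : ∀ j : ℕ, ∀ s ∈ TT D k, (α ^ (2 * j)) s = b ^ j * s ^ N ^ j * (b ^ j)⁻¹ := by
    intro j
    induction j with
    | zero => intro s _; simp
    | succ j ih =>
      intro s hs
      have e1 : (α ^ (2 * (j + 1))) s = α (α ((α ^ (2 * j)) s)) := by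
        have e0 : α ^ (2 * (j + 1)) = α * (α * α ^ (2 * j)) := by
          rw [← pow_succ', ← pow_succ']
          rfl
        rw [e0]
        rfl
      rw [e1, ih s hs, hα2 _ (hbj j _ (pow_mem hs _)), conj_pow, ← pow_mul, ← pow_succ]
      rw [pow_succ' b j]
      group
  have hpowM : ∀ s ∈ TT D k, (α ^ (2 * M')) s = s ^ N ^ M' := by
    intro s hs
    rw [hpow2 M' s hs, _root_.Cfsg.Agent.H720.TorusReal.TT_comm hp hbM (pow_mem hs _), mul_inv_cancel_right]
  -- `c = v⁻¹ α(v)`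
  set! c := v⁻¹ * α v with hc
  have hcT : c ∈ TT D k := by
    refine mem_TT_of_central hp cs hk p hB hd' fun s hs => ?_
    obtain ⟨r, hr⟩ := α.surjective s
    have hr' : r ∈ TT D k := hαT' r (by rw [hr]; exact hs)
    have e1 : α v * s * (α v)⁻¹ = s⁻¹ := by
      have e4 := congrArg α (hvt r hr')
      rwa [map_mul, map_mul, map_inv, map_inv, hr] at e4
    have e2 := hvt s hs
    rw [hc]
    have e3 : α v * s = v * s * v⁻¹ * α v := by
      rw [e2, ← e1]; group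
    rw [mul_assoc, e3]
    group
  have hNM : 1 < N ^ M' := Nat.one_lt_pow hM'.ne' h1N
  obtain ⟨s, hs, h2⟩ := torus_lang' hp hB hd' hαT hNM hpowM hcT
  have h3 : α (v * s) = v * s := by
    rw [map_mul]
    have e1 : α v = v * c := by rw [hc]; group
    rw [e1, mul_assoc, ← h2]
  have hσy : σ y = n⁻¹ * y := by rw [← hyn]; group
  refine ⟨y⁻¹ * (v * s) * y, ?_, ?_⟩
  · rw [map_mul, map_mul, map_inv, hσy]
    rw [hαn] at h3
    calc (n⁻¹ * y)⁻¹ * σ (v * s) * (n⁻¹ * y) = y⁻¹ * (n * σ (v * s) * n⁻¹) * y := by group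
      _ = y⁻¹ * (v * s) * y := by rw [h3]
  · have h4 : s * t = t * s := _root_.Cfsg.Agent.H720.TorusReal.TT_comm hp hs ht
    have hxt : x = y⁻¹ * t * y := by rw [← hyx]; group
    calc y⁻¹ * (v * s) * y * x * (y⁻¹ * (v * s) * y)⁻¹
        = y⁻¹ * (v * (s * t) * s⁻¹ * v⁻¹) * y := by rw [hxt]; group
      _ = y⁻¹ * (v * t * v⁻¹) * y := by rw [h4]; group
      _ = x⁻¹ := by rw [hvt t ht, hxt]; group

end Real

section F4

variable {k : Type u} [Field k] [CharP k 2] [IsAlgClosed k] [PerfectRing k 2]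
  {W : Type*} [Group W] (cs : CoxeterSystem CoxeterMatrix.F₄ W)

theorem xS_eq {r : ℕ} (hr : r < 48) (a : k) : xS hp4.inList r a = xc hp4 (vec chevF4 4 r) a := by
  apply Subtype.ext
  rw [coe_xc hp4 (show r < chevF4.nroots from hr)]
  rfl

open Cfsg.Agent.LangThm in
/-- Lang's theorem for the groups generated by the root groups centralising a toral element. -/
theorem lang_F4 [Fact (Nat.Prime 2)] [Finite W] (hk : LocFin k) (hN : NSys CoxeterMatrix.F₄ (TT chevF4 k) (nc hp4 k)) (m : ℕ)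
    (w : W) (n t : ↥(chevF4.group k)) (hn : Rp cs hN w n) (ht : t ∈ TT chevF4 k)
    (hnt : n * (al k * Cfsg.Agent.BpExc.FamUntw.phi chevF4 k 2 m : MulAut _) t * n⁻¹ = t)
    {m' : ↥(chevF4.group k)}
    (hm' : m' ∈ BpExc.TorCent.MM cs hp4.isCartan (XX chevF4 4 k) (ch hp4) t) :
    ∃ u, u * t = t * u ∧ m' = u⁻¹ * (n * (al k * Cfsg.Agent.BpExc.FamUntw.phi chevF4 k 2 m : MulAut _) u * n⁻¹) := by
  have C := coordsL hp4 cs hk 2
  set! σ : MulAut ↥(chevF4.group k) := al k * Cfsg.Agent.BpExc.FamUntw.phi chevF4 k 2 m with hσ; rewrite [← hσ] at hnt ⊢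
  set! α : MulAut ↥(chevF4.group k) := MulAut.conj n * σ with hα
  have hαn : ∀ y, α y = n * σ y * n⁻¹ := fun y => rfl
  set! Sx₀ := Sx cs hp4.isCartan (ch hp4 (K := k)) t with hSx
  set! S : Set ℕ := {r | r < 48 ∧ vec chevF4 4 r ∈ Sx₀} with hS
  -- the two descriptions of the group
  have hto : ∀ g ∈ BpExc.TorCent.MM cs hp4.isCartan (XX chevF4 4 k) (ch hp4) t,
      (g : GL chevF4.Idx k) ∈ LangThm.MM hp4.inList S k := by
    intro g hg
    have h1 : BpExc.TorCent.MM cs hp4.isCartan (XX chevF4 4 k) (ch hp4) t ≤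
        (LangThm.MM hp4.inList S k).subgroupOf (chevF4.group k) := by
      refine RGD.Sup_le fun a ha x hx => ?_
      obtain ⟨r, hr, rfl⟩ := (isRoot_iff hp4 cs a).1 ha.1
      obtain ⟨b, hb⟩ := (mem_XX_vec hp4 hr).1 hx
      rw [Subgroup.mem_subgroupOf, hb]
      exact Subgroup.subset_closure ⟨r, ⟨hr, ha⟩, b, rfl⟩
    exact h1 hg
  have hfrom : ∀ g : ↥(chevF4.group k), (g : GL chevF4.Idx k) ∈ LangThm.MM hp4.inList S k →
      g ∈ BpExc.TorCent.MM cs hp4.isCartan (XX chevF4 4 k) (ch hp4) t := by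
    intro g hg
    have h1 : LangThm.MM hp4.inList S k ≤
        (BpExc.TorCent.MM cs hp4.isCartan (XX chevF4 4 k) (ch hp4) t).map (chevF4.group k).subtype := by
      refine (closure_le _).2 ?_
      rintro _ ⟨r, ⟨hr, hr'⟩, b, rfl⟩
      exact ⟨xS hp4.inList r b, RGD.le_Sup hr' ((mem_XX_vec hp4 (show r < chevF4.nroots from hr)).2 ⟨b, rfl⟩), rfl⟩
    obtain ⟨g', hg', e⟩ := h1 hg
    have e' : g' = g := Subtype.ext e
    rw [← e']
    exact hg'
  -- the square of `α`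
  have hJ : ∀ g, ((α ^ 2) g : GL chevF4.Idx k) = ((n * σ n : ↥(chevF4.group k)) : GL chevF4.Idx k) *
      frob 2 (2 * m + 1) (g : GL chevF4.Idx k) * ((n * σ n : ↥(chevF4.group k)) : GL chevF4.Idx k)⁻¹ := by
    intro g
    have e1 : (α ^ 2) g = (n * σ n) * σ (σ g) * (n * σ n)⁻¹ := by
      rw [pow_two]
      show α (α g) = _
      rw [hαn, hαn, map_mul, map_mul, map_inv]
      group
    have e2 : σ (σ g) = Cfsg.Agent.BpExc.FamUntw.phi chevF4 k 2 (2 * m + 1) g := by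
      rw [← MulAut.mul_apply]
      exact DFunLike.congr_fun (al_phi_sq m) g
    rw [e1, e2]
    have e3 : ((Cfsg.Agent.BpExc.FamUntw.phi chevF4 k 2 (2 * m + 1) g : ↥(chevF4.group k)) : GL chevF4.Idx k) =
        frob 2 (2 * m + 1) (g : GL chevF4.Idx k) := Cfsg.Agent.BpExc.FamInst.phi_frob _ _ _
    rw [← e3]
    rfl
  -- the root groups
  have hroot : ∀ r ∈ S, ∃ s ∈ S, ∃ P : Polynomial k, ∀ a,
      (α (xS hp4.inList r a) : GL chevF4.Idx k) = xG hp4.inList s (P.eval a) := by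
    rintro r ⟨hr, hrS⟩
    have hbr : br r < 48 := (tab r hr).1
    -- the image root
    have hr1 : IsRoot cs hp4.isCartan (vec chevF4 4 (br r)) := (isRoot_iff hp4 cs _).2 ⟨br r, hbr, rfl⟩
    obtain ⟨s, hs, hsv⟩ := (isRoot_iff hp4 cs _).1 (hr1.act w)
    have himg : ∀ b : k, ∃ u : k, (n : GL chevF4.Idx k) * xG hp4.inList (br r) b * (n : GL chevF4.Idx k)⁻¹ =
        xG hp4.inList s u := by
      intro b
      have H := tow hp4 cs hk 2 (k := k)
      have hn' : Rp cs H.nsys w n := by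
        have key : ∀ (T : Subgroup ↥(chevF4.group k)) (h1 : NSys CoxeterMatrix.F₄ T (nc hp4 k)) (h2 : T = TT chevF4 k),
            Rp cs h1 w n := by
          intro T h1 h2
          subst h2
          exact hn
        exact key _ _ (TL_eq hp4 hk)
      have h1 := H.conj_rp hn' hr1
      rw [XL_eq hp4 hk] at h1
      have h2 : n * xS hp4.inList (br r) b * n⁻¹ ∈ XX chevF4 4 k (rep cs hp4.isCartan w (vec chevF4 4 (br r))) := by
        rw [← h1]
        exact conj_mem_cj.2 ((mem_XX_vec hp4 (show br r < chevF4.nroots from hbr)).2 ⟨b, rfl⟩)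
      rw [← hsv] at h2
      exact (mem_XX_vec hp4 hs).1 h2
    obtain ⟨P, hP⟩ := exists_poly hp4.inList (n : GL chevF4.Idx k) himg
    have hval : ∀ a : k, (α (xS hp4.inList r a) : GL chevF4.Idx k) =
        xG hp4.inList s (P.eval ((a ^ 2 ^ m) ^ la r)) := by
      intro a
      have e1 : σ (xS hp4.inList r a) = xS hp4.inList (br r) ((a ^ 2 ^ m) ^ la r) := by
        rw [hσ, MulAut.mul_apply, phi_xS, al_xS hr]
      rw [hαn, e1]
      exact hP _
    refine ⟨s, ⟨hs, ?_⟩, P.comp ((Polynomial.X ^ 2 ^ m) ^ la r), fun a => ?_⟩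
    · -- `s ∈ S`
      have h1 : xS hp4.inList r (1 : k) ∈ XX chevF4 4 k (vec chevF4 4 r) :=
        (mem_XX_vec hp4 (show r < chevF4.nroots from hr)).2 ⟨1, rfl⟩
      have h2 := X_le_centralizer C ht hrS h1
      rw [Subgroup.mem_centralizer_singleton_iff] at h2
      have h3 : α (xS hp4.inList r (1 : k)) ∈ XX chevF4 4 k (vec chevF4 4 s) :=
        (mem_XX_vec hp4 hs).2 ⟨_, hval 1⟩
      refine mem_Sx_of_centralizer C ht ((isRoot_iff hp4 cs _).2 ⟨s, hs, rfl⟩) h3 ?_ ?_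
      · intro h4
        have h5 : xS hp4.inList r (1 : k) = 1 := α.injective (h4.trans (map_one α).symm)
        have h6 : xS hp4.inList r (0 : k) = 1 := by
          apply Subtype.ext
          exact xG_zero hp4.inList r
        rw [← h6, xS_eq hr, xS_eq hr] at h5
        exact one_ne_zero (xc_inj hp4 (show r < chevF4.nroots from hr) h5)
      · rw [Subgroup.mem_centralizer_singleton_iff]
        have h5 := congrArg α h2
        rwa [map_mul, map_mul, hαn t, hnt] at h5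
    · rw [hval, Polynomial.eval_comp, Polynomial.eval_pow, Polynomial.eval_pow, Polynomial.eval_X]
  obtain ⟨u, hu, hmu⟩ := lang_end hp4 2 (2 * m + 1) 2 (by omega) S α _ hJ hroot (hto m' hm')
  refine ⟨u, ?_, hmu⟩
  have h1 := MM_le_centralizer C ht (hfrom u hu)
  rw [Subgroup.mem_centralizer_singleton_iff] at h1
  exact h1

end F4

section Main

local notation "phiA" => Cfsg.Agent.BpExc.FamUntw.phi chevF4

local notation "phiB" => Cfsg.Agent.H129.TorusUntw.phi chevF4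

/-- **The elements of odd order of `²F₄(q)` are real.** -/
theorem isConj_inv {F : Type u} [Field F] [Fintype F] {m : ℕ} (hF : Fintype.card F = 2 ^ (2 * m + 1))
    (x : ↥(twistedF4 F (2 ^ m))) (hx : Odd (orderOf x)) : IsConj x x⁻¹ := by
  have hf2 : Fact (Nat.Prime 2) := ⟨Nat.prime_two⟩
  have hF2 : CharP F 2 := by
    obtain ⟨p, hp⟩ := CharP.exists F
    have : Fact p.Prime := ⟨CharP.char_is_prime F p⟩
    obtain ⟨n, h1, h2⟩ := FiniteField.card F p
    rw [hF] at h2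
    have h3 : p ∣ 2 ^ (2 * m + 1) := by rw [h2]; exact dvd_pow_self p n.ne_zero
    have h4 := (Nat.prime_dvd_prime_iff_eq h1 Nat.prime_two).1 (h1.dvd_of_dvd_pow h3)
    rwa [h4] at hp
  have hPF : PerfectRing F 2 := inferInstance
  have h1 := Cfsg.Agent.H296.Core.charP_closure F 2
  have hk := Cfsg.Agent.H296.Core.locFin_closure F 2
  have hPk : PerfectRing (AlgebraicClosure F) 2 := inferInstance
  have hA : Cfsg.Agent.BpExc.TorAll.HAlg 2 (AlgebraicClosure F) := Cfsg.Agent.H944.RootVals.hAlg_closure 2 F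
  set! k := AlgebraicClosure F
  let f : F →+* k := algebraMap F k
  have cs := CoxeterMatrix.F₄.toCoxeterSystem
  have : Finite CoxeterMatrix.F₄.Group := finite_W hp4 cs
  obtain ⟨w₀, hw₀⟩ := Cfsg.Agent.H720.RowsNeg.exists_neg Cfsg.Agent.H130.WeylTab.lists_F4 cs hp4.isCartan
    [0, 1, 2, 3] 6 (by decide +kernel)
  have hN := Cfsg.Agent.H129.TorusUntw.nsys_of_locFin hp4 cs hk 2
  set! σ : MulAut ↥(chevF4.group k) := al k * phiA k 2 m with hσ
  have hFr : Fr cs hp4.isCartan (TT chevF4 k) (XX chevF4 4 k) (phiB k 2 (2 * m + 1))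
      (AddEquiv.refl (Fin 4 → ℤ)) := Cfsg.Agent.H129.TorusUntw.fr_phi hp4 cs
  have hFr' : Fr cs hp4.isCartan (TT chevF4 k) (XX chevF4 4 k) (phiB k 2 m)
      (AddEquiv.refl (Fin 4 → ℤ)) := Cfsg.Agent.H129.TorusUntw.fr_phi hp4 cs
  have hσσ : ∀ y, σ (σ y) = phiB k 2 (2 * m + 1) y := by
    intro y
    rw [← phi_eq_phi, ← al_phi_sq]
    rfl
  have hT : ∀ s ∈ TT chevF4 k, σ s ∈ TT chevF4 k := by
    intro s hs
    refine al_TT _ ?_
    rw [phi_eq_phi]
    exact (hFr'.tor s).2 hs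
  have hT' : ∀ s, σ s ∈ TT chevF4 k → s ∈ TT chevF4 k := by
    intro s hs
    have h2 := hT _ hs
    rw [hσσ] at h2
    exact (hFr.tor s).1 h2
  have hsq : ∀ s ∈ TT chevF4 k, σ (σ s) = s ^ 2 ^ (2 * m + 1) := by
    intro s hs
    rw [hσσ]
    refine cX_inj hp4 ((hFr.tor s).2 hs) (pow_mem hs _) fun i => ?_
    rw [cX_pow hp4 hs]
    exact cX_sigma hp4 cs Cfsg.Agent.H129.TorusUntw.isFrob_phi hFr hs (sr i)
  obtain ⟨τ, hτ⟩ : ∃ τ : F ≃+* F, ∀ a, τ a = a ^ 2 ^ m :=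
    ⟨iterateFrobeniusEquiv F 2 m, fun a => by rw [iterateFrobeniusEquiv_def]⟩
  obtain ⟨a, ha, hfa⟩ := le_fix hF hτ x.2
  have hinj := emb_injective hp4.inList f
  have hoa : orderOf (emb hp4.inList f a) = orderOf x := by
    rw [orderOf_injective _ (by exact hinj), ← Subgroup.orderOf_coe a, ha, Subgroup.orderOf_coe]
  have hfin : Finite ↥(twistedF4 F (2 ^ m)) := inferInstance
  obtain ⟨y, hσy, hyx⟩ := real_all hp4 cs (σ := σ) hA hk hN
    invC_F4 one_ne_zero hT hT' (N := 2 ^ (2 * m + 1))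
    (Nat.one_lt_pow (by omega) (by norm_num)) hsq
    (fun w n t hn ht hnt m' hm' => lang_F4 cs hk hN m w n t hn ht hnt hm') hw₀ (x := emb hp4.inList f a)
    (by rw [hσ, nat_sg f hτ, hfa]) ((orderOf_pos x).ne' :) (Nat.coprime_two_right.2 hx)
    (by rw [← hoa]; exact pow_orderOf_eq_one _)
  have hdesc : ∀ y : ↥(chevF4.group k), σ y = y → ∃ b : ↥(chevF4.group F), emb hp4.inList f b = y ∧
      (b : GL chevF4.Idx F) ∈ twistedF4 F (2 ^ m) := by
    intro y hy
    have h2 : phiB k 2 (2 * m + 1) y = y := by rw [← hσσ, hy, hy]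
    obtain ⟨b, hb⟩ := Cfsg.Agent.H129.TorusUntw.fix_range hp4 cs f hF invC_F4 one_ne_zero
      (fun a => ⟨a, pow_one a⟩) h2
    refine ⟨b, hb, fix_le hF hτ ?_⟩
    apply hinj
    rw [← nat_sg f hτ, hb]
    exact hy
  obtain ⟨c, hc, hcT⟩ := hdesc y hσy
  have hcb : c * a * c⁻¹ = a⁻¹ := by
    apply hinj
    rw [map_mul, map_mul, map_inv, map_inv, hc, hyx]
  refine isConj_iff.2 ⟨⟨c, hcT⟩, ?_⟩
  apply Subtype.ext
  show (c : GL chevF4.Idx F) * (x : GL chevF4.Idx F) * (c : GL chevF4.Idx F)⁻¹ = (x : GL chevF4.Idx F)⁻¹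
  rw [← ha]
  exact congrArg Subtype.val hcb

/-- **`²F₄(q)`, `q ≥ 8`.** -/
theorem rowS_2F4 {p : ℕ} [hp : Fact p.Prime] (hp2 : p ≠ 2) {X : Type*} [Group X] [Finite X] [IsSimpleGroup X]
    (hna : ¬ IsMulCommutative X) (hd : p ∣ Nat.card X) (h : Lie.Iso2F4 X) : H712.Gmn.RowS p X := by
  have hna' : ¬ ∀ x y : X, x * y = y * x := fun h => hna ⟨⟨h⟩⟩
  refine H712.Gmn.RowS.of_real hp2 (H712.Gmn.center_eq_bot hna') hd fun z hz hzp => ?_
  obtain ⟨K, _, _, m, -, hK, ⟨e⟩⟩ := h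
  have ho : orderOf z = p := orderOf_eq_prime hzp hz
  have h1 := isConj_inv hK (e z) (by
    rw [MulEquiv.orderOf_eq, ho]
    exact hp.out.odd_of_ne_two hp2)
  obtain ⟨c, hc⟩ := isConj_iff.1 h1
  refine isConj_iff.2 ⟨e.symm c, e.injective ?_⟩
  rw [map_mul, map_mul, map_inv, MulEquiv.apply_symm_apply, hc, map_inv]

/-- **The Suzuki groups.** -/
theorem rowS_suzuki {p : ℕ} [hp : Fact p.Prime] (hp2 : p ≠ 2) {X : Type*} [Group X] [Finite X] [IsSimpleGroup X]
    (hna : ¬ IsMulCommutative X) (hd : p ∣ Nat.card X) (h : Lie.IsoSuzuki X) : H712.Gmn.RowS p X := by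
  have hna' : ¬ ∀ x y : X, x * y = y * x := fun h => hna ⟨⟨h⟩⟩
  obtain ⟨F, _, _, m, hm, hF, ⟨e⟩⟩ := h
  refine H712.Gmn.RowS.of_cyclic hna' hd fun Q => ?_
  have h1 := Cfsg.Agent.H67.SzOdd.sylow_cyclic hm hF hp2 (Q.mapSurjective (f := e.toMonoidHom) e.surjective)
  have h2 : Function.Injective (e.toMonoidHom.subgroupMap (Q : Subgroup X)) := by
    intro a b hab
    apply Subtype.ext
    exact e.injective (congrArg Subtype.val hab)
  have h3 : IsCyclic ↥(map e.toMonoidHom (Q : Subgroup X)) := h1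
  exact isCyclic_of_injective (e.toMonoidHom.subgroupMap (Q : Subgroup X)) h2

/-- **The small Ree groups, `p ≠ 3`.** -/
theorem rowS_ree {p : ℕ} [hp : Fact p.Prime] (hp2 : p ≠ 2) (hp3 : p ≠ 3) {X : Type*} [Group X] [Finite X]
    [IsSimpleGroup X] (hna : ¬ IsMulCommutative X) (hd : p ∣ Nat.card X) (h : Lie.IsoRee X) :
    H712.Gmn.RowS p X := by
  have hna' : ¬ ∀ x y : X, x * y = y * x := fun h => hna ⟨⟨h⟩⟩
  obtain ⟨K, _, _, m, hm, hK, ⟨e⟩⟩ := h
  refine H712.Gmn.RowS.of_cyclic hna' hd fun Q => ?_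
  have hp4 : 3 < p := by
    have := hp.out.two_le
    omega
  have h1 := Cfsg.Agent.S1156.result hm hK hp4 (Q.mapSurjective (f := e.toMonoidHom) e.surjective)
  have h2 : Function.Injective (e.toMonoidHom.subgroupMap (Q : Subgroup X)) := by
    intro a b hab
    apply Subtype.ext
    exact e.injective (congrArg Subtype.val hab)
  have h3 : IsCyclic ↥(map e.toMonoidHom (Q : Subgroup X)) := h1
  exact isCyclic_of_injective (e.toMonoidHom.subgroupMap (Q : Subgroup X)) h2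

end Main

end Cfsg.Agent.H507.GmnTwF
end
end
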