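import Cfsg.Agent.S2569
import Cfsg.Agent.H193.SsConj
import Cfsg.Agent.ClassicalGeometry.AutPSL.Root
import Cfsg.Agent.H175.SympConj
import Cfsg.Agent.LieClassical.SympCenter
import Cfsg.Agent.Prune
set_option linter.all false

section
prune_inst 0x7f00000000000000000000000000000000000000000000000000000000000000000000000000000000000000000000000000000000000000000000000000000000000000000000000000000000000000003fffffffffffffffffffffffffffbeffbdffffffff

-- part: H507/GmnLinA
section
set_option linter.all false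
open scoped Cfsg.Agent.FastGrp

/-!
# Elements of prime order `p` of `PSL_n(q)`, `p` not dividing `q (q - 1)`

`conj_pow` : such an element `z` is conjugate to `z ^ q`.
-/

set_option autoImplicit false

namespace Cfsg.Agent.H507.GmnLinA

open Matrix Polynomial
open Cfsg.Agent.ClassicalGeometry.AutPSL.Root

/-- Lifting elements of order prime to the order of the kernel. -/
theorem exists_lift {X Y : Type*} [Group X] [Group Y] (π : X →* Y) (hπ : Function.Surjective π) {m p : ℕ}
    (hm : ∀ x, π x = 1 → x ^ m = 1) (hmp : Nat.Coprime m p) (hp1 : 1 < p) {z : Y} (hz : z ^ p = 1) :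
    ∃ x : X, π x = z ∧ x ^ p = 1 := by
  obtain ⟨a, rfl⟩ := hπ z
  have h1 : (a ^ p) ^ m = 1 := hm _ (by rw [map_pow, hz])
  obtain ⟨k, hk⟩ : ∃ k : ℕ, m * k ≡ 1 [MOD p] := by
    obtain ⟨k, -, hk⟩ := Nat.exists_mul_mod_eq_one_of_coprime hmp hp1
    refine ⟨k, ?_⟩
    rw [Nat.ModEq, hk, Nat.mod_eq_of_lt hp1]
  refine ⟨a ^ (m * k), ?_, ?_⟩
  · rw [map_pow]
    have h2 : π a ^ (m * k) = π a ^ 1 := by
      apply pow_eq_pow_of_modEq hk hz
    rw [h2, pow_one]
  · rw [← pow_mul, show m * k * p = p * m * k by ring, pow_mul, pow_mul, h1, one_pow]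

theorem conj_pow {F : Type} [Field F] [Fintype F] {n p : ℕ} (hp : p.Prime) (hpF : (p : F) ≠ 0)
    (hpq : ¬ p ∣ Fintype.card F - 1) {z : Matrix.ProjectiveSpecialLinearGroup (Fin n) F} (hz : z ^ p = 1) :
    ∃ g : Matrix.ProjectiveSpecialLinearGroup (Fin n) F, g * z * g⁻¹ = z ^ Fintype.card F := by
  classical
  obtain ⟨x, rfl, hx⟩ := exists_lift (pr : Matrix.SpecialLinearGroup (Fin n) F →* _) pr_surjective
    (m := Fintype.card F - 1) (p := p) (by
      intro x hx
      rw [pr_eq_one_iff] at hx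
      obtain ⟨r, -, hr⟩ := Matrix.SpecialLinearGroup.mem_center_iff.1 hx
      apply Subtype.ext
      change ((x ^ (Fintype.card F - 1) : Matrix.SpecialLinearGroup (Fin n) F) : Matrix (Fin n) (Fin n) F) = 1
      rw [Matrix.SpecialLinearGroup.coe_pow, ← hr, ← map_pow]
      rcases Nat.eq_zero_or_pos n with rfl | hn
      · ext i; exact i.elim0
      · have : NeZero n := ⟨hn.ne'⟩
        have h1 : r ≠ 0 := by
          rintro rfl
          have h2 := x.2
          rw [← hr, map_zero, Matrix.det_zero] at h2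
          exact zero_ne_one h2
        rw [FiniteField.pow_card_sub_one_eq_one r h1, map_one]) ((Nat.Prime.coprime_iff_not_dvd hp).2 hpq).symm hp.one_lt hz
  let X : GL (Fin n) F := Matrix.SpecialLinearGroup.toGL x
  have hXp : X ^ p = 1 := by rw [← map_pow, hx, map_one]
  have hX : (X : Matrix (Fin n) (Fin n) F) ^ p = 1 := by
    rw [← Units.val_pow_eq_pow_val, hXp, Units.val_one]
  have hsq : Squarefree (Polynomial.X ^ p - 1 : F[X]) := by
    have h1 : (Polynomial.X ^ p - Polynomial.C (1 : F)).Separable :=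
      Polynomial.separable_X_pow_sub_C (1 : F) hpF one_ne_zero
    rw [Polynomial.C_1] at h1
    exact h1.squarefree
  have han : ∀ Y : GL (Fin n) F, (Y : Matrix (Fin n) (Fin n) F) ^ p = 1 →
      aeval (Y : Matrix (Fin n) (Fin n) F) (Polynomial.X ^ p - 1 : F[X]) = 0 := by
    intro Y hY
    rw [map_sub, map_pow, aeval_X, hY, map_one, sub_self]
  have hXq : ((X ^ Fintype.card F : GL (Fin n) F) : Matrix (Fin n) (Fin n) F) ^ p = 1 := by
    rw [Units.val_pow_eq_pow_val, ← pow_mul, mul_comm, pow_mul, hX, one_pow]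
  have hch : (X : Matrix (Fin n) (Fin n) F).charpoly =
      ((X ^ Fintype.card F : GL (Fin n) F) : Matrix (Fin n) (Fin n) F).charpoly := by
    rw [Units.val_pow_eq_pow_val]
    exact (FiniteField.Matrix.charpoly_pow_card _).symm
  obtain ⟨g, hg⟩ := isConj_iff.1 (Cfsg.Agent.H193.SsConj.isConj_of_charpoly X (X ^ Fintype.card F) _ hsq
    (han X hX) (han _ hXq) hch)
  obtain ⟨r, hr⟩ := CharP.exists F
  have hrp : Fact r.Prime := ⟨CharP.char_is_prime F r⟩
  have hco : (orderOf X).Coprime r := by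
    have h1 : orderOf X ∣ p := orderOf_dvd_of_pow_eq_one hXp
    refine Nat.Coprime.coprime_dvd_left h1 ((Nat.coprime_primes hp hrp.out).2 ?_)
    rintro rfl
    exact hpF (CharP.cast_eq_zero F p)
  obtain ⟨h, hdet, hh⟩ := Cfsg.Agent.S2569.result (p := r) X g hco
  let h' : Matrix.SpecialLinearGroup (Fin n) F := ⟨h, hdet⟩
  have h1 : h' * x * h'⁻¹ = x ^ Fintype.card F := by
    have hinj : Function.Injective (Matrix.SpecialLinearGroup.toGL : Matrix.SpecialLinearGroup (Fin n) F →* _) := by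
      intro a b hab
      apply Subtype.ext
      exact congrArg Units.val hab
    apply hinj
    have h2 : Matrix.SpecialLinearGroup.toGL h' = h := Units.ext rfl
    rw [map_mul, map_mul, map_inv, map_pow, h2]
    exact hh.trans hg
  exact ⟨pr h', by rw [← map_mul, ← map_inv, ← map_mul, h1, map_pow]⟩

/-- `q` is not `1` modulo `p`. -/
theorem not_modEq {q p : ℕ} (hq : 1 ≤ q) (h : ¬ p ∣ q - 1) : ¬ q ≡ 1 [MOD p] := by
  intro h1
  exact h ((Nat.modEq_iff_dvd' hq).1 h1.symm)

end Cfsg.Agent.H507.GmnLinA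
end

-- part: H507/GmnSp
section
set_option linter.all false
open scoped Cfsg.Agent.FastGrp

/-!
# Elements of odd prime order `p` of `PSp_{2m}(q)`, `p` not dividing `q`, are real
-/

set_option autoImplicit false

namespace Cfsg.Agent.H507.GmnSp

open Matrix Polynomial Cfsg

/-- **Elements of odd prime order, not the characteristic, of `PSp_{2m}(q)` are real.** -/
theorem conj_inv {F : Type*} [Field F] [Fintype F] {m p : ℕ} (hp : p.Prime) (hp2 : p ≠ 2) (hpF : (p : F) ≠ 0)
    {z : PSp m F} (hz : z ^ p = 1) : ∃ g : PSp m F, g * z * g⁻¹ = z⁻¹ := by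
  classical
  let π : Matrix.symplecticGroup (Fin m) F →* PSp m F := QuotientGroup.mk' _
  obtain ⟨A, rfl, hA⟩ := GmnLinA.exists_lift π (QuotientGroup.mk'_surjective _) (m := 2) (p := p) (by
    intro x hx
    have h1 : x ∈ Subgroup.center (Matrix.symplecticGroup (Fin m) F) := (QuotientGroup.eq_one_iff x).1 hx
    obtain ⟨a, ha⟩ := (Cfsg.Agent.LieClassical.SympCenter.mem_center_iff m x).1 h1
    apply Subtype.ext
    change ((x ^ 2 : Matrix.symplecticGroup (Fin m) F) : Matrix (Fin m ⊕ Fin m) (Fin m ⊕ Fin m) F) = 1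
    rcases Nat.eq_zero_or_pos m with rfl | hm
    · ext i
      rcases i with i | i <;> exact i.elim0
    · have h2 := SymplecticGroup.mem_iff.1 x.2
      rw [ha] at h2
      rw [SubmonoidClass.coe_pow, ha, _root_.smul_pow, one_pow]
      rw [Matrix.smul_mul, one_mul, Matrix.transpose_smul, Matrix.transpose_one, Matrix.mul_smul, mul_one,
        smul_smul] at h2
      have h3 : (a * a - 1) • (J (Fin m) F) = 0 := by rw [sub_smul, h2, one_smul, sub_self]
      have h4 : J (Fin m) F ≠ 0 := by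
        intro h
        have h5 := J_squared (Fin m) F
        rw [h, mul_zero] at h5
        have h6 := congrFun (congrFun h5 (Sum.inl ⟨0, hm⟩)) (Sum.inl ⟨0, hm⟩)
        rw [Matrix.neg_apply, Matrix.one_apply_eq, Matrix.zero_apply] at h6
        exact one_ne_zero (neg_eq_zero.1 h6.symm)
      have h5 : a * a = 1 := sub_eq_zero.1 ((smul_eq_zero.1 h3).resolve_right h4)
      rw [pow_two, h5, one_smul]) ((Nat.coprime_primes Nat.prime_two hp).2 hp2.symm) hp.one_lt hz
  have hcoe : ∀ B : Matrix.symplecticGroup (Fin m) F, B ^ p = 1 →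
      (B : Matrix (Fin m ⊕ Fin m) (Fin m ⊕ Fin m) F) ^ p = 1 := fun B hB => by
    rw [← SubmonoidClass.coe_pow, hB]; rfl
  have hAi : A⁻¹ ^ p = 1 := by rw [inv_pow, hA, inv_one]
  have hch : (A : Matrix (Fin m ⊕ Fin m) (Fin m ⊕ Fin m) F).charpoly =
      ((A⁻¹ : Matrix.symplecticGroup (Fin m) F) : Matrix (Fin m ⊕ Fin m) (Fin m ⊕ Fin m) F).charpoly := by
    rw [SymplecticGroup.coe_inv, mul_assoc, Matrix.charpoly_mul_comm, mul_assoc, Matrix.mul_neg, J_squared, neg_neg,
      mul_one, Matrix.charpoly_transpose]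
  have hunit : ∀ (M : Matrix (Fin m ⊕ Fin m) (Fin m ⊕ Fin m) F), M ^ p = 1 →
      ∃ U : GL (Fin m ⊕ Fin m) F, U.val = M := fun M hM => by
    have hu : IsUnit M := IsUnit.of_pow_eq_one hM hp.ne_zero
    exact ⟨hu.unit, rfl⟩
  obtain ⟨U, hU⟩ := hunit _ (hcoe A hA)
  obtain ⟨V, hV⟩ := hunit _ (hcoe A⁻¹ hAi)
  have hsq : Squarefree (Polynomial.X ^ p - 1 : F[X]) := by
    have h1 : (Polynomial.X ^ p - Polynomial.C (1 : F)).Separable :=
      Polynomial.separable_X_pow_sub_C (1 : F) hpF one_ne_zero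
    rw [Polynomial.C_1] at h1
    exact h1.squarefree
  obtain ⟨c, hc⟩ := Cfsg.Agent.H193.SsConj.isConj_of_charpoly U V _ hsq
    (by rw [hU, map_sub, map_pow, aeval_X, hcoe A hA, map_one, sub_self])
    (by rw [hV, map_sub, map_pow, aeval_X, hcoe _ hAi, map_one, sub_self]) (by rw [hU, hV]; exact hch)
  have hc' : c.val * U = V * c.val := hc
  obtain ⟨r, hr⟩ := CharP.exists F
  have hrp : Fact r.Prime := ⟨CharP.char_is_prime F r⟩
  have hco : (orderOf A).Coprime r := by
    have h1 : orderOf A ∣ p := orderOf_dvd_of_pow_eq_one hA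
    refine Nat.Coprime.coprime_dvd_left h1 ((Nat.coprime_primes hp hrp.out).2 ?_)
    rintro rfl
    exact hpF (CharP.cast_eq_zero F p)
  have hconj := Cfsg.Agent.H175.SympConj.exists_conj (p := r) A A⁻¹ hco c.val.val (Units.isUnit _) (by
    rw [← hU, ← hV, ← Units.val_mul, hc', Units.val_mul])
  obtain ⟨g, hg⟩ := isConj_iff.1 hconj
  exact ⟨π g, by rw [← map_mul, ← map_inv, ← map_mul, hg, map_inv]⟩

end Cfsg.Agent.H507.GmnSp
end
end
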