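import Mathlib
import Cfsg.Agent.H507.GmnMono
import Cfsg.Agent.BpLin.PSL
import Cfsg.Agent.H507.GmnSp
import Cfsg.Agent.H711.Crit_m3
import Cfsg.Agent.H711.RowCount
import Cfsg.Agent.H603.SporElim
import Cfsg.Agent.CpAutHN.Second
import Cfsg.Agent.S2082
import Cfsg.Agent.FastGrp
import Cfsg.Agent.Prune
set_option linter.all false

section
prune_inst 0x7f00000000000000000000000000000000000000000000000000000000000000000000000000000000000000000000000000000000000000000000000000000000000000000000000000000000000000003fffffffffffffffffffffffffffbeffbdffffffff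

-- part: H507/GmnCover
section
set_option linter.all false
open scoped Cfsg.Agent.FastGrp

/-!
# Normalisers of `p`-subgroups in a group with a subgroup of index prime to `p`

* `frattini` : `P ≤ H`, `P` a Sylow `p`-subgroup of `P I`, `I` normal, `f : H → K` a homomorphism to a group of order
  prime to `p` which is not trivial on `H ∩ P I`: some `p'`-element of `H ∩ I` normalises `P` and is not in the kernel.
* `cover` : the same for a group `Γ` mapping to `MulAut S` and a `p`-subgroup `A` of `MulAut S` containing a Sylow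
  `p`-subgroup of `S`, `H ≤ Γ` of index prime to `p`;
* `cover_strong` : moreover `h` does not centralise the Sylow subgroup (`T` a `p`-subgroup normalised by `H`, on which
  the `p'`-elements outside the kernel of `f` act nontrivially).
-/

set_option autoImplicit false

namespace Cfsg.Agent.H507.Gmn

open Subgroup

section Frattini

variable {Γ : Type*} [Group Γ] [Finite Γ] {p : ℕ} [hp : Fact p.Prime]

/-- The `p'`-part of an element keeps its image in a `p'`-group nontrivial. -/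
theorem pow_ne_one {K : Type*} [Group K] [Finite K] (hK : ¬ p ∣ Nat.card K) {y : K} (hy : y ≠ 1) (k : ℕ) :
    y ^ p ^ k ≠ 1 := by
  intro h
  have h1 : orderOf y ∣ p ^ k := orderOf_dvd_of_pow_eq_one h
  have h2 : orderOf y ∣ Nat.card K := orderOf_dvd_natCard y
  have h3 : Nat.Coprime (p ^ k) (Nat.card K) := Nat.Coprime.pow_left k ((Nat.Prime.coprime_iff_not_dvd hp.out).2 hK)
  have h4 : orderOf y = 1 := Nat.eq_one_of_dvd_coprimes h3 h1 h2
  exact hy (orderOf_eq_one_iff.1 h4)

theorem frattini {I P H : Subgroup Γ} [hI : I.Normal] (hP : IsPGroup p ↥P) (hPI : ¬ p ∣ P.relIndex (P ⊔ I))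
    (hPH : P ≤ H) {K : Type*} [Group K] [Finite K] (hK : ¬ p ∣ Nat.card K) (f : ↥H →* K) (x : ↥H)
    (hx : (x : Γ) ∈ P ⊔ I) (hfx : f x ≠ 1) :
    ∃ n : ↥H, (n : Γ) ∈ I ∧ (∀ g ∈ P, (n : Γ) * g * (n : Γ)⁻¹ ∈ P) ∧ f n ≠ 1 ∧ ¬ p ∣ orderOf n := by
  classical
  let X : Subgroup Γ := H ⊓ (P ⊔ I)
  have hXH : X ≤ H := inf_le_left
  have hPX : P ≤ X := le_inf hPH le_sup_left
  let f' : ↥X →* K := f.comp (Subgroup.inclusion hXH)
  let N : Subgroup ↥X := f'.ker
  let PX : Subgroup ↥X := P.subgroupOf X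
  have hPXp : IsPGroup p ↥PX := hP.comap_subtype
  have hPXN : PX ≤ N := by
    intro g hg
    rw [MonoidHom.mem_ker]
    by_contra hne
    obtain ⟨k, hk⟩ := hPXp ⟨g, hg⟩
    have hk' : g ^ p ^ k = 1 := congrArg Subtype.val hk
    exact pow_ne_one hK hne k (by rw [← map_pow, hk', map_one])
  let PN : Subgroup ↥N := PX.subgroupOf N
  have hPNp : IsPGroup p ↥PN := hPXp.comap_subtype
  have hPNi : ¬ p ∣ PN.index := by
    intro hd
    apply hPI
    have h1 : PN.index ∣ PX.index := by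
      change PX.relIndex N ∣ PX.index
      exact Subgroup.relIndex_dvd_index_of_le hPXN
    have h2 : PX.index ∣ P.relIndex (P ⊔ I) := by
      change P.relIndex X ∣ P.relIndex (P ⊔ I)
      have h3 : P.relIndex X * X.relIndex (P ⊔ I) = P.relIndex (P ⊔ I) :=
        Subgroup.relIndex_mul_relIndex P X (P ⊔ I) hPX inf_le_right
      exact ⟨_, h3.symm⟩
    exact (hd.trans h1).trans h2
  let Q : Sylow p ↥N := hPNp.toSylow hPNi
  have hQ : (Q : Subgroup ↥N).map N.subtype = PX := by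
    change PN.map N.subtype = PX
    rw [Subgroup.subgroupOf_map_subtype]
    exact inf_eq_left.2 hPXN
  have hfr := Sylow.normalizer_sup_eq_top Q
  rw [hQ] at hfr
  let x' : ↥X := ⟨x, x.2, hx⟩
  have hx' : x' ∈ normalizer (PX : Set ↥X) ⊔ N := by rw [hfr]; exact Subgroup.mem_top _
  rw [Subgroup.mem_sup_of_normal_right] at hx'
  obtain ⟨n, hn, m, hm, hnm⟩ := hx'
  have hfn : f' n ≠ 1 := by
    intro h1
    apply hfx
    have h2 : f' x' = f x := rfl
    rw [← h2, ← hnm, map_mul, h1, one_mul]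
    exact hm
  obtain ⟨k, c, hc, hkc⟩ : ∃ k c, ¬ p ∣ c ∧ orderOf n = p ^ k * c := by
    obtain ⟨k, c, hc, h⟩ := Nat.exists_eq_pow_mul_and_not_dvd (orderOf_pos n).ne' p hp.out.ne_one
    exact ⟨k, c, hc, h⟩
  let n' : ↥X := n ^ p ^ k
  have hn'o : orderOf n' = c := by
    change orderOf (n ^ p ^ k) = c
    rw [orderOf_pow, hkc, Nat.gcd_eq_right (Dvd.intro _ rfl), Nat.mul_div_cancel_left _ (pow_pos hp.out.pos k)]
  have hn' : n' ∈ normalizer (PX : Set ↥X) := Subgroup.pow_mem _ hn _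
  have hco : Nat.Coprime c p := ((Nat.Prime.coprime_iff_not_dvd hp.out).2 hc).symm
  refine ⟨⟨(n' : Γ), hXH n'.2⟩, ?_, ?_, ?_, ?_⟩
  · -- the `p'`-element lies in `I`
    have h1 : (n' : Γ) ∈ P ⊔ I := n'.2.2
    rw [Subgroup.mem_sup_of_normal_right] at h1
    obtain ⟨a, ha, i, hi, hai⟩ := h1
    obtain ⟨l, hl⟩ := hP ⟨a, ha⟩
    have hl' : a ^ p ^ l = 1 := congrArg Subtype.val hl
    have h2 : ((n' : Γ) : Γ ⧸ I) ^ p ^ l = 1 := by
      have h3 : ((n' : Γ) : Γ ⧸ I) = (a : Γ ⧸ I) := by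
        rw [← hai, QuotientGroup.mk_mul, (QuotientGroup.eq_one_iff i).2 hi, mul_one]
      rw [h3, ← QuotientGroup.mk_pow, hl', QuotientGroup.mk_one]
    have h4 : ((n' : Γ) : Γ ⧸ I) ^ c = 1 := by
      rw [← QuotientGroup.mk_pow]
      have h5 : (n' : Γ) ^ c = 1 := by
        have h6 : n' ^ c = 1 := by rw [← hn'o]; exact pow_orderOf_eq_one _
        exact congrArg Subtype.val h6
      rw [h5, QuotientGroup.mk_one]
    have h7 : orderOf ((n' : Γ) : Γ ⧸ I) = 1 :=
      Nat.eq_one_of_dvd_coprimes (Nat.Coprime.pow_right l hco) (orderOf_dvd_of_pow_eq_one h4)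
        (orderOf_dvd_of_pow_eq_one h2)
    exact (QuotientGroup.eq_one_iff _).1 (orderOf_eq_one_iff.1 h7)
  · intro g hg
    have h1 : (⟨g, hPX hg⟩ : ↥X) ∈ PX := hg
    have h2 := (Subgroup.mem_normalizer_iff.1 hn' ⟨g, hPX hg⟩).1 h1
    exact h2
  · have h1 : f ⟨(n' : Γ), hXH n'.2⟩ = f' n' := rfl
    rw [h1]
    change f' (n ^ p ^ k) ≠ 1
    rw [map_pow]
    exact pow_ne_one hK hfn k
  · have h1 : orderOf (⟨(n' : Γ), hXH n'.2⟩ : ↥H) = orderOf n' := by
      rw [← Subgroup.orderOf_coe, ← Subgroup.orderOf_coe n']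
    rw [h1, hn'o]
    exact hc

end Frattini

section Cover

variable {S Γ : Type*} [Group S] [Finite S] [Group Γ] [Finite Γ] {p : ℕ} [hp : Fact p.Prime]

/-- A `p`-subgroup has a conjugate in every subgroup of index prime to `p`. -/
theorem exists_conj_le {P H : Subgroup Γ} (hP : IsPGroup p ↥P) (hH : ¬ p ∣ H.index) :
    ∃ γ : Γ, ∀ x ∈ P, γ⁻¹ * x * γ ∈ H := by
  have h1 := hP.card_modEq_card_fixedPoints (α := Γ ⧸ H)
  have h2 : (MulAction.fixedPoints ↥P (Γ ⧸ H)).Nonempty := by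
    rw [Set.nonempty_iff_ne_empty]
    intro he
    apply hH
    rw [he] at h1
    have h3 : Nat.card ↥(∅ : Set (Γ ⧸ H)) = 0 := by simp
    rw [h3] at h1
    exact (Nat.modEq_zero_iff_dvd).1 h1
  obtain ⟨c, hc⟩ := h2
  obtain ⟨γ, rfl⟩ := QuotientGroup.mk_surjective c
  refine ⟨γ, fun x hx => ?_⟩
  have h3 := (MulAction.mem_fixedPoints.1 hc) ⟨x, hx⟩
  have h4 : ((x * γ : Γ) : Γ ⧸ H) = (γ : Γ ⧸ H) := h3
  have h5 := QuotientGroup.eq.1 h4.symm
  rw [mul_assoc]
  exact h5

/-- A Sylow `p`-subgroup of the preimage of a `p`-group. -/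
theorem exists_sylow_lift {G' : Type*} [Group G'] (Φ : Γ →* G') {A : Subgroup G'} (hA : IsPGroup p ↥A)
    (hAΦ : A ≤ Φ.range) : ∃ P : Subgroup Γ, IsPGroup p ↥P ∧ P.map Φ = A ∧ ¬ p ∣ P.relIndex (A.comap Φ) := by
  classical
  let At := A.comap Φ
  obtain ⟨P⟩ : Nonempty (Sylow p ↥At) := inferInstance
  have hle : (P : Subgroup ↥At).map At.subtype ≤ At := Subgroup.map_subtype_le _
  refine ⟨(P : Subgroup ↥At).map At.subtype, P.2.map _, ?_, ?_⟩
  · apply le_antisymm
    · rintro _ ⟨x, hx, rfl⟩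
      exact hle hx
    · -- the index of the image in `A` divides a power of `p` and is prime to `p`
      let B := ((P : Subgroup ↥At).map At.subtype).map Φ
      have hBA : B ≤ A := by
        rintro _ ⟨x, hx, rfl⟩
        exact hle hx
      have h0 : Finite ↥A := by
        have : Finite ↥Φ.range := Finite.of_surjective _ Φ.rangeRestrict_surjective
        exact Finite.of_injective _ (Subgroup.inclusion_injective hAΦ)
      have h1 : ¬ p ∣ B.relIndex A := by
        have h2 : B.relIndex A ∣ (P : Subgroup ↥At).index := by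
          have h3 : (P : Subgroup ↥At).index = ((P : Subgroup ↥At).map At.subtype).relIndex At := by
            have h4 : ((P : Subgroup ↥At).map At.subtype).subgroupOf At = (P : Subgroup ↥At) := by
              rw [Subgroup.subgroupOf, Subgroup.comap_map_eq_self_of_injective At.subtype_injective]
            rw [Subgroup.relIndex, h4]
          rw [h3]
          have h5 : ((P : Subgroup ↥At).map At.subtype) ≤ B.comap Φ := Subgroup.le_comap_map _ _
          have h6 : (B.comap Φ).relIndex At = B.relIndex (At.map Φ) := Subgroup.relIndex_comap _ _ _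
          have h7 : At.map Φ = A := by
            change (A.comap Φ).map Φ = A
            rw [Subgroup.map_comap_eq]
            exact inf_eq_right.2 hAΦ
          rw [h7] at h6
          rw [← h6]
          exact Subgroup.relIndex_dvd_of_le_left _ h5
        intro hd
        exact P.not_dvd_index (hd.trans h2)
      have h2 : B.relIndex A = 1 := by
        obtain ⟨k, hk⟩ := IsPGroup.iff_card.1 hA
        have h3 : B.relIndex A ∣ Nat.card ↥A := Subgroup.relIndex_dvd_card B A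
        rw [hk] at h3
        obtain ⟨m, -, hm⟩ := (Nat.dvd_prime_pow hp.out).1 h3
        rcases Nat.eq_zero_or_pos m with rfl | hpos
        · simpa using hm
        · exfalso
          apply h1
          rw [hm]
          exact dvd_pow_self p hpos.ne'
      exact Subgroup.relIndex_eq_one.1 h2
  · have h4 : ((P : Subgroup ↥At).map At.subtype).subgroupOf At = (P : Subgroup ↥At) := by
      rw [Subgroup.subgroupOf, Subgroup.comap_map_eq_self_of_injective At.subtype_injective]
    rw [Subgroup.relIndex, h4]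
    exact P.not_dvd_index

theorem relIndex_sup_self {G' : Type*} [Group G'] [Finite G'] (A J : Subgroup G') [J.Normal] :
    A.relIndex (A ⊔ J) = A.relIndex J := by
  have h1 : (A ⊓ J).relIndex A * Nat.card ↥(A ⊓ J) = Nat.card ↥A := by
    have := Subgroup.relIndex_mul_relIndex ⊥ (A ⊓ J) A bot_le inf_le_left
    rw [Subgroup.relIndex_bot_left, Subgroup.relIndex_bot_left] at this
    rw [mul_comm]; exact this
  have h2 : (A ⊓ J).relIndex J * Nat.card ↥(A ⊓ J) = Nat.card ↥J := by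
    have := Subgroup.relIndex_mul_relIndex ⊥ (A ⊓ J) J bot_le inf_le_right
    rw [Subgroup.relIndex_bot_left, Subgroup.relIndex_bot_left] at this
    rw [mul_comm]; exact this
  have h3 : Nat.card ↥A * A.relIndex (A ⊔ J) = Nat.card ↥(A ⊔ J) := by
    have := Subgroup.relIndex_mul_relIndex ⊥ A (A ⊔ J) bot_le le_sup_left
    rw [Subgroup.relIndex_bot_left, Subgroup.relIndex_bot_left] at this
    exact this
  have h4 : Nat.card ↥J * J.relIndex (A ⊔ J) = Nat.card ↥(A ⊔ J) := by
    have := Subgroup.relIndex_mul_relIndex ⊥ J (A ⊔ J) bot_le le_sup_right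
    rw [Subgroup.relIndex_bot_left, Subgroup.relIndex_bot_left] at this
    exact this
  rw [Subgroup.relIndex_sup_right] at h4
  rw [Subgroup.inf_relIndex_left] at h1
  rw [Subgroup.inf_relIndex_right] at h2
  have h5 : 0 < Nat.card ↥A := Nat.card_pos
  apply Nat.eq_of_mul_eq_mul_left h5
  rw [h3, ← h4, ← h1, ← h2]
  ring

/-- **The covering criterion.** -/
theorem cover (Φ : Γ →* MulAut S) (H : Subgroup Γ) (hH : ¬ p ∣ H.index) {K : Type*} [Group K] [Finite K]
    (hK : ¬ p ∣ Nat.card K) (f : ↥H →* K)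
    (hx : ∃ w : ↥H, Φ w ∈ (MulAut.conj : S →* MulAut S).range ∧ f w ≠ 1) (A : Subgroup (MulAut S))
    (hA : IsPGroup p ↥A) (hAΦ : A ≤ Φ.range) (Q : Sylow p S) (hQ : (Q : Subgroup S).map MulAut.conj ≤ A) :
    ∃ (γ : Γ) (w : ↥H) (h : S), f w ≠ 1 ∧ ¬ p ∣ orderOf w ∧ Φ (γ * w * γ⁻¹) = MulAut.conj h ∧
      (∀ a ∈ A, ∃ v : ↥H, a = Φ (γ * v * γ⁻¹)) ∧
      (∀ a ∈ A, MulAut.conj h * a * (MulAut.conj h)⁻¹ ∈ A) := by
  classical
  obtain ⟨P, hP, hPA, hPi⟩ := exists_sylow_lift Φ hA hAΦ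
  obtain ⟨γ, hγ⟩ := exists_conj_le hP hH
  -- conjugate into `H`
  let c : Γ ≃* Γ := MulAut.conj γ⁻¹
  let P' : Subgroup Γ := P.map (c : Γ →* Γ)
  have hP' : IsPGroup p ↥P' := hP.map _
  have hP'H : P' ≤ H := by
    rintro _ ⟨x, hx, rfl⟩
    change γ⁻¹ * x * γ⁻¹⁻¹ ∈ H
    rw [inv_inv]
    exact hγ x hx
  let J : Subgroup (MulAut S) := (MulAut.conj : S →* MulAut S).range
  have hJn : J.Normal := by
    refine ⟨?_⟩
    rintro _ ⟨s, rfl⟩ g
    refine ⟨g s, ?_⟩
    apply MulEquiv.ext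
    intro x
    change g s * x * (g s)⁻¹ = g (s * g⁻¹ x * s⁻¹)
    rw [map_mul, map_mul, MulAut.apply_inv_self, map_inv]
  let I : Subgroup Γ := J.comap Φ
  have hIn : I.Normal := hJn.comap Φ
  have hPI : ¬ p ∣ P.relIndex (P ⊔ I) := by
    have h1 : P ⊔ I ≤ (A ⊔ J).comap Φ := by
      refine sup_le ?_ (Subgroup.comap_mono le_sup_right)
      rw [← Subgroup.map_le_iff_le_comap, hPA]
      exact le_sup_left
    have hPAc : P ≤ A.comap Φ := by rw [← Subgroup.map_le_iff_le_comap, hPA]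
    have h2 : P.relIndex (P ⊔ I) ∣ P.relIndex ((A ⊔ J).comap Φ) :=
      ⟨_, (Subgroup.relIndex_mul_relIndex P (P ⊔ I) _ le_sup_left h1).symm⟩
    have h3 : P.relIndex (A.comap Φ) * (A.comap Φ).relIndex ((A ⊔ J).comap Φ) = P.relIndex ((A ⊔ J).comap Φ) :=
      Subgroup.relIndex_mul_relIndex _ _ _ hPAc (Subgroup.comap_mono le_sup_left)
    have h4 : (A.comap Φ).relIndex ((A ⊔ J).comap Φ) ∣ A.relIndex (A ⊔ J) := by
      rw [Subgroup.relIndex_comap]
      have h5 : ((A ⊔ J).comap Φ).map Φ ≤ A ⊔ J := Subgroup.map_comap_le _ _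
      have h6 : A ≤ ((A ⊔ J).comap Φ).map Φ := by
        refine le_trans (le_of_eq hPA.symm) (Subgroup.map_mono ?_)
        exact le_sup_left.trans h1
      exact ⟨_, (Subgroup.relIndex_mul_relIndex A _ _ h6 h5).symm⟩
    have h5 : A.relIndex (A ⊔ J) = A.relIndex J := relIndex_sup_self A J
    have h6 : A.relIndex J ∣ (Q : Subgroup S).index := by
      have h7 : ((Q : Subgroup S).map MulAut.conj).relIndex J ∣ (Q : Subgroup S).index := by
        have h8 := Subgroup.relIndex_map_map (MulAut.conj : S →* MulAut S) (Q : Subgroup S) ⊤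
        rw [top_sup_eq, Subgroup.relIndex_top_right, ← MonoidHom.range_eq_map] at h8
        rw [h8]
        exact Subgroup.index_dvd_of_le le_sup_left
      exact (Subgroup.relIndex_dvd_of_le_left J hQ).trans h7
    intro hd
    have h7 := hd.trans h2
    rw [← h3] at h7
    rcases (Nat.Prime.dvd_mul hp.out).1 h7 with h8 | h8
    · exact hPi h8
    · exact Q.not_dvd_index ((h8.trans (h4.trans (by rw [h5]))).trans h6)
  have hP'I : ¬ p ∣ P'.relIndex (P' ⊔ I) := by
    have h1 : P' ⊔ I = (P ⊔ I).map (c : Γ →* Γ) := by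
      rw [Subgroup.map_sup]
      congr 1
      ext y
      constructor
      · intro hy
        refine ⟨γ * y * γ⁻¹, hIn.conj_mem y hy γ, ?_⟩
        change γ⁻¹ * (γ * y * γ⁻¹) * γ⁻¹⁻¹ = y
        group
      · rintro ⟨x, hx, rfl⟩
        exact hIn.conj_mem x hx γ⁻¹
    rw [h1, Subgroup.relIndex_map_map_of_injective _ _ c.injective]
    exact hPI
  obtain ⟨x, hx1, hx2⟩ := hx
  obtain ⟨n, hn1, hn2, hn3, hn4⟩ := frattini hP' hP'I hP'H hK f x
    (Subgroup.mem_sup_right (show (x : Γ) ∈ I from hx1)) hx2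
  have h1 : Φ (γ * n * γ⁻¹) ∈ J := by
    rw [map_mul, map_mul, map_inv]
    exact hJn.conj_mem _ hn1 _
  obtain ⟨h, hh⟩ := h1
  refine ⟨γ, n, h, hn3, hn4, hh.symm, ?_, ?_⟩
  · intro a ha
    rw [← hPA] at ha
    obtain ⟨x, hx, rfl⟩ := ha
    refine ⟨⟨γ⁻¹ * x * γ, hγ x hx⟩, ?_⟩
    congr 1
    group
  · intro a ha
    rw [← hPA] at ha ⊢
    obtain ⟨x, hx, rfl⟩ := ha
    rw [hh]
    refine ⟨γ * n * γ⁻¹ * x * (γ * n * γ⁻¹)⁻¹, ?_, by simp only [map_mul, map_inv]⟩
    have h2 : γ⁻¹ * x * γ ∈ P' := ⟨x, hx, by change γ⁻¹ * x * γ⁻¹⁻¹ = _; rw [inv_inv]⟩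
    have h3 := hn2 _ h2
    obtain ⟨y, hy, hy2⟩ := h3
    have h4 : γ⁻¹ * y * γ⁻¹⁻¹ = (n : Γ) * (γ⁻¹ * x * γ) * (n : Γ)⁻¹ := hy2
    have h5 : y = γ * n * γ⁻¹ * x * (γ * n * γ⁻¹)⁻¹ := by
      rw [inv_inv] at h4
      calc y = γ * (γ⁻¹ * y * γ) * γ⁻¹ := by group
        _ = γ * ((n : Γ) * (γ⁻¹ * x * γ) * (n : Γ)⁻¹) * γ⁻¹ := by rw [h4]
        _ = _ := by group
    rw [← h5]
    exact hy

theorem conj_injective {S : Type*} [Group S] (hc : center S = ⊥) :
    Function.Injective (MulAut.conj : S →* MulAut S) := by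
  rw [injective_iff_map_eq_one]
  intro s hs
  have h1 : s ∈ center S := by
    rw [Subgroup.mem_center_iff]
    intro g
    have h2 : MulAut.conj s g = g := by rw [hs]; rfl
    have h3 : s * g * s⁻¹ = g := h2
    calc g * s = s * g * s⁻¹ * s := by rw [h3]
      _ = s * g := by group
  rw [hc] at h1
  exact Subgroup.mem_bot.1 h1

/-- **The covering criterion, strong form**: the `p'`-element normalising `A` does not centralise the Sylow subgroup
`Q`. -/
theorem cover_strong (hc : center S = ⊥) (Φ : Γ →* MulAut S) (H : Subgroup Γ) (hH : ¬ p ∣ H.index) {K : Type*}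
    [Group K] [Finite K] (hK : ¬ p ∣ Nat.card K) (f : ↥H →* K)
    (hx : ∃ w : ↥H, Φ w ∈ (MulAut.conj : S →* MulAut S).range ∧ f w ≠ 1) (T : Subgroup S) (hT : IsPGroup p ↥T)
    (hTn : ∀ w : ↥H, Φ w ∈ (MulAut.conj : S →* MulAut S).range → ∀ t ∈ T, Φ w t ∈ T)
    (hTf : ∀ w : ↥H, ¬ p ∣ orderOf w → Φ w ∈ (MulAut.conj : S →* MulAut S).range → f w ≠ 1 → ∃ t ∈ T, Φ w t ≠ t)
    (A : Subgroup (MulAut S)) (hA : IsPGroup p ↥A) (hAΦ : A ≤ Φ.range) (Q : Sylow p S)
    (hQ : (Q : Subgroup S).map MulAut.conj ≤ A) :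
    ∃ h : S, ¬ p ∣ orderOf h ∧ (∀ a ∈ A, MulAut.conj h * a * (MulAut.conj h)⁻¹ ∈ A) ∧
      ∃ t ∈ (Q : Subgroup S), h * t * h⁻¹ ≠ t := by
  obtain ⟨γ, w, h, hfw, hw, hh, hAH, hN⟩ := cover Φ H hH hK f hx A hA hAΦ Q hQ
  have hinj := conj_injective hc
  have hJn : ∀ (g : MulAut S) (a : MulAut S), a ∈ (MulAut.conj : S →* MulAut S).range →
      g * a * g⁻¹ ∈ (MulAut.conj : S →* MulAut S).range := by
    rintro g _ ⟨s, rfl⟩
    refine ⟨g s, ?_⟩
    apply MulEquiv.ext
    intro x
    change g s * x * (g s)⁻¹ = g (s * g⁻¹ x * s⁻¹)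
    rw [map_mul, map_mul, MulAut.apply_inv_self, map_inv]
  have hΦw : Φ w = (Φ γ)⁻¹ * MulAut.conj h * Φ γ := by
    rw [← hh, map_mul, map_mul, map_inv]
    group
  have hwJ : Φ w ∈ (MulAut.conj : S →* MulAut S).range := by
    rw [hΦw]
    have := hJn (Φ γ)⁻¹ (MulAut.conj h) ⟨h, rfl⟩
    rwa [inv_inv] at this
  obtain ⟨t, ht, htw⟩ := hTf w hw hwJ hfw
  -- `Φ(γ)(T) ≤ Q`
  let Tγ : Subgroup S := T.map (Φ γ : S →* S)
  have hTγ : IsPGroup p ↥Tγ := hT.map _
  have hTγn : (Q : Subgroup S) ≤ normalizer (Tγ : Set S) := by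
    intro s hs
    have key : ∀ s : S, s ∈ (Q : Subgroup S) → ∀ x ∈ Tγ, s * x * s⁻¹ ∈ Tγ := by
      rintro s hs _ ⟨x, hx, rfl⟩
      obtain ⟨v, hv⟩ := hAH (MulAut.conj s) (hQ ⟨s, hs, rfl⟩)
      have h1 : Φ v = (Φ γ)⁻¹ * MulAut.conj s * Φ γ := by
        rw [hv, map_mul, map_mul, map_inv]
        group
      have h2 : Φ v ∈ (MulAut.conj : S →* MulAut S).range := by
        rw [h1]
        have := hJn (Φ γ)⁻¹ (MulAut.conj s) ⟨s, rfl⟩
        rwa [inv_inv] at this
      refine ⟨Φ v x, hTn v h2 x hx, ?_⟩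
      change Φ γ (Φ v x) = s * Φ γ x * s⁻¹
      rw [h1]
      change Φ γ ((Φ γ)⁻¹ (MulAut.conj s (Φ γ x))) = s * Φ γ x * s⁻¹
      rw [MulAut.apply_inv_self]
      rfl
    rw [Subgroup.mem_normalizer_iff]
    intro x
    constructor
    · exact key s hs x
    · intro h1
      have h2 := key s⁻¹ ((Q : Subgroup S).inv_mem hs) _ h1
      have h3 : s⁻¹ * (s * x * s⁻¹) * s⁻¹⁻¹ = x := by group
      rwa [h3] at h2
  have hTQ : Tγ ≤ (Q : Subgroup S) := by
    have h1 : IsPGroup p ↥((Q : Subgroup S) ⊔ Tγ) := Q.2.to_sup_of_normal_right' hTγ hTγn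
    have h2 : (Q : Subgroup S) ⊔ Tγ = Q := Q.3 h1 le_sup_left
    rw [← h2]
    exact le_sup_right
  refine ⟨h, ?_, hN, Φ γ t, hTQ ⟨t, ht, rfl⟩, ?_⟩
  · intro hd
    apply hw
    rw [← MonoidHom.map_inv] at hN
    have h1 : orderOf h = orderOf (MulAut.conj h) := (orderOf_injective _ hinj h).symm
    have h2 : orderOf (MulAut.conj h) ∣ orderOf w := by
      rw [← hh]
      have h3 : orderOf (γ * (w : Γ) * γ⁻¹) = orderOf w := by
        have h4 : γ * (w : Γ) * γ⁻¹ = MulAut.conj γ (w : Γ) := rfl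
        rw [h4]
        have h5 : orderOf ((MulAut.conj γ) (w : Γ)) = orderOf (w : Γ) :=
          orderOf_injective ((MulAut.conj γ : Γ ≃* Γ) : Γ →* Γ) (MulAut.conj γ).injective _
        rw [h5, Subgroup.orderOf_coe]
      rw [← h3]
      exact orderOf_map_dvd Φ _
    exact (h1 ▸ hd).trans h2
  · intro h1
    apply htw
    rw [hΦw]
    change (Φ γ)⁻¹ (h * (Φ γ t) * h⁻¹) = t
    rw [h1, MulAut.inv_apply_self]

end Cover

end Cfsg.Agent.H507.Gmn
end

-- part: H507/GmnRows
section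
set_option linter.all false
open scoped Cfsg.Agent.FastGrp

-- part: H507/GmnPSL
section
/-!
# `p`-groups of automorphisms of `PSL_n(q)` containing a Sylow `p`-subgroup, `p` odd dividing `q - 1`

`frames` : for `p` an odd prime dividing `q - 1`, `n ≥ 2`, every `p`-subgroup `A` of the automorphism group of
`PSL_n(q)` containing a Sylow `p`-subgroup `Q` of `PSL_n(q)` is normalised by a `p'`-element of `PSL_n(q)` that does not
centralise `Q`.
-/

set_option autoImplicit false
set_option linter.unusedSectionVars false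

namespace Cfsg.Agent.H507.GmnPSL

open Matrix Cfsg.Agent.H507.Gmn Cfsg.Agent.H507.GmnMono
open Cfsg.Agent.ClassicalGeometry.AutPSL.Root Cfsg.Agent.ClassicalGeometry.AutPSL.Auto
  Cfsg.Agent.ClassicalGeometry.AutPSL.Main Cfsg.Agent.Schreier.ClassPSL

section Gam

variable {ι F : Type*} [Fintype ι] [DecidableEq ι] [Field F]

/-- field automorphisms acting on `GL` -/
def mgAut (ι F : Type*) [Fintype ι] [DecidableEq ι] [Field F] : (F ≃+* F) →* MulAut (GL ι F) where
  toFun σ :=
    { toFun := Matrix.GeneralLinearGroup.map (σ : F →+* F)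
      invFun := Matrix.GeneralLinearGroup.map (σ.symm : F →+* F)
      left_inv := fun g => by
        apply Units.ext
        ext i j
        change σ.symm (σ ((g : Matrix ι ι F) i j)) = _
        exact σ.symm_apply_apply _
      right_inv := fun g => by
        apply Units.ext
        ext i j
        change σ (σ.symm ((g : Matrix ι ι F) i j)) = _
        exact σ.apply_symm_apply _
      map_mul' := fun g h => map_mul _ g h }
  map_one' := by
    apply MulEquiv.ext
    intro g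
    apply Units.ext
    ext i j
    rfl
  map_mul' σ τ := by
    apply MulEquiv.ext
    intro g
    apply Units.ext
    ext i j
    rfl

theorem mgAut_apply (σ : F ≃+* F) (g : GL ι F) : mgAut ι F σ g = Matrix.GeneralLinearGroup.map (σ : F →+* F) g := rfl

/-- the semilinear group -/
abbrev GamL (ι F : Type*) [Fintype ι] [DecidableEq ι] [Field F] : Type _ := GL ι F ⋊[mgAut ι F] (F ≃+* F)

/-- the action on `PSL` -/
def Phi (ι F : Type*) [Fintype ι] [DecidableEq ι] [Field F] :
    GamL ι F →* MulAut (Matrix.ProjectiveSpecialLinearGroup ι F) :=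
  SemidirectProduct.lift (lift.comp cj) (lift.comp fld) (by
    intro σ
    apply MonoidHom.ext
    intro g
    change lift (cj (mgAut ι F σ g)) = lift (fld σ) * lift (cj g) * (lift (fld σ))⁻¹
    rw [mgAut_apply, ← map_mul, fld_mul_cj, map_mul lift, mul_inv_cancel_right])

theorem Phi_apply (x : GamL ι F) : Phi ι F x = lift (cj x.left * fld x.right) := by
  change lift (cj x.left) * lift (fld x.right) = _
  rw [map_mul]

instance [Finite F] : Finite (GamL ι F) := by
  have : Finite (F ≃+* F) := Finite.of_injective (fun σ => (σ : F → F)) (fun a b h => RingEquiv.ext fun x => congrFun h x)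
  exact Finite.of_equiv _ (SemidirectProduct.equivProd (φ := mgAut ι F)).symm

theorem mgAut_mono (σ : F ≃+* F) (π : Equiv.Perm ι) (d : ι → Fˣ) :
    mgAut ι F σ (mono π d) = mono π (fun j => Units.map (σ : F →* F) (d j)) := by
  apply Units.ext
  ext i j
  change σ (M π (fun j => (d j : F)) i j) = M π (fun j => ((Units.map (σ : F →* F) (d j) : Fˣ) : F)) i j
  rw [M_apply, M_apply]
  split_ifs
  · rfl
  · exact map_zero σ

/-- the stabiliser of the standard frame -/
def Hm (ι F : Type*) [Fintype ι] [DecidableEq ι] [Field F] : Subgroup (GamL ι F) where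
  carrier := {x | x.left ∈ Mon ι F}
  one_mem' := (Mon ι F).one_mem
  mul_mem' := by
    intro x y hx hy
    change x.left * mgAut ι F x.right y.left ∈ Mon ι F
    refine (Mon ι F).mul_mem hx ?_
    obtain ⟨π, d, h⟩ := mem_Mon.1 hy
    rw [h, mgAut_mono]
    exact ⟨_, _, rfl⟩
  inv_mem' := by
    intro x hx
    change mgAut ι F x.right⁻¹ x.left⁻¹ ∈ Mon ι F
    obtain ⟨π, d, h⟩ := mem_Mon.1 hx
    rw [h, mono_inv, mgAut_mono]
    exact ⟨_, _, rfl⟩

/-- the permutation of the lines of the frame -/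
noncomputable def perH (ι F : Type*) [Fintype ι] [DecidableEq ι] [Field F] : ↥(Hm ι F) →* Equiv.Perm ι where
  toFun x := per ⟨x.1.left, x.2⟩
  map_one' := per_eq mono_one.symm
  map_mul' x y := by
    obtain ⟨d, hd⟩ := per_spec ⟨x.1.left, x.2⟩
    obtain ⟨e, he⟩ := per_spec ⟨y.1.left, y.2⟩
    have h1 : (x * y).1.left = x.1.left * mgAut ι F x.1.right y.1.left := rfl
    apply per_eq (d := fun j => d (per ⟨y.1.left, y.2⟩ j) * Units.map (x.1.right : F →* F) (e j))
    change (x * y).1.left = _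
    rw [← mono_mul, ← mgAut_mono, h1]
    have hd' : x.1.left = mono (per ⟨x.1.left, x.2⟩) d := hd
    have he' : y.1.left = mono (per ⟨y.1.left, y.2⟩) e := he
    rw [← hd', ← he']

theorem perH_spec (x : ↥(Hm ι F)) : ∃ d : ι → Fˣ, x.1.left = mono (perH ι F x) d := per_spec ⟨x.1.left, x.2⟩

theorem perH_eq {x : ↥(Hm ι F)} {π : Equiv.Perm ι} {d : ι → Fˣ} (h : x.1.left = mono π d) : perH ι F x = π :=
  per_eq h

theorem index_Hm [Finite F] : (Hm ι F).index = (Mon ι F).index := by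
  have hfin : Finite (F ≃+* F) :=
    Finite.of_injective (fun σ => (σ : F → F)) (fun a b h => RingEquiv.ext fun x => congrFun h x)
  have e1 : Nat.card (GamL ι F) = Nat.card (GL ι F) * Nat.card (F ≃+* F) := by
    rw [Nat.card_congr (SemidirectProduct.equivProd (φ := mgAut ι F)), Nat.card_prod]
  have e2 : Nat.card ↥(Hm ι F) = Nat.card ↥(Mon ι F) * Nat.card (F ≃+* F) := by
    rw [← Nat.card_prod]
    refine Nat.card_congr ⟨fun x => (⟨x.1.left, x.2⟩, x.1.right), fun y => ⟨⟨y.1.1, y.2⟩, y.1.2⟩, fun x => rfl,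
      fun y => rfl⟩
  have h1 := (Hm ι F).card_mul_index
  have h2 := (Mon ι F).card_mul_index
  rw [e1, e2, ← h2] at h1
  have h3 : 0 < Nat.card ↥(Mon ι F) * Nat.card (F ≃+* F) := Nat.mul_pos Nat.card_pos Nat.card_pos
  apply Nat.eq_of_mul_eq_mul_left h3
  rw [h1]
  ring

/-- an inner semilinear automorphism is linear -/
theorem right_eq_one [Nontrivial ι] {x : GamL ι F}
    (h : Phi ι F x ∈ (MulAut.conj : _ →* MulAut (Matrix.ProjectiveSpecialLinearGroup ι F)).range) : x.right = 1 := by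
  obtain ⟨s, hs⟩ := h
  obtain ⟨s, rfl⟩ := pr_surjective s
  have h1 : (MulAut.conj (pr s) : MulAut (Matrix.ProjectiveSpecialLinearGroup ι F)) =
      lift (cj (Matrix.SpecialLinearGroup.toGL s)) := by
    apply MulEquiv.ext
    intro y
    obtain ⟨y, rfl⟩ := pr_surjective y
    rw [lift_pr, MulAut.conj_apply, ← map_mul, ← map_inv, ← map_mul]
    congr 1
  rw [Phi_apply, h1] at hs
  have h2 : lift (cj ((Matrix.SpecialLinearGroup.toGL s)⁻¹ * x.left) * fld x.right) =
      lift (fld (ι := ι) (1 : F ≃+* F)) := by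
    rw [map_mul cj, mul_assoc, map_mul lift, ← hs, map_inv cj, map_inv lift, inv_mul_cancel, map_one, map_one]
  exact (injective_aux h2).2

/-- the inner automorphism of a linear element of determinant `1` -/
theorem Phi_inner (s : Matrix.SpecialLinearGroup ι F) :
    Phi ι F ⟨Matrix.SpecialLinearGroup.toGL s, 1⟩ = MulAut.conj (pr s) := by
  rw [Phi_apply]
  apply MulEquiv.ext
  intro y
  obtain ⟨y, rfl⟩ := pr_surjective y
  rw [lift_pr, MulAut.conj_apply, ← map_mul, ← map_inv, ← map_mul]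
  congr 1

theorem conj_diag (π : Equiv.Perm ι) (d : ι → Fˣ) (σ : F ≃+* F) {g : Matrix.SpecialLinearGroup ι F} {a : ι → F}
    (hg : (g : Matrix ι ι F) = Matrix.diagonal a) :
    (cj (mono π d) (fld σ g) : Matrix ι ι F) = Matrix.diagonal (fun i => σ (a (π⁻¹ i))) := by
  have h0 : ((fld σ g : Matrix.SpecialLinearGroup ι F) : Matrix ι ι F) = Matrix.diagonal (fun i => σ (a i)) := by
    ext i j
    rw [coe_fld_apply, hg, Matrix.diagonal_apply, Matrix.diagonal_apply]
    split_ifs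
    · rfl
    · exact map_zero σ
  rw [coe_cj, h0]
  have h1 : ((mono π d : GL ι F) : Matrix ι ι F) * Matrix.diagonal (fun i => σ (a i)) =
      Matrix.diagonal (fun i => σ (a (π⁻¹ i))) * (mono π d : GL ι F) := by
    rw [coe_mono, ← M_diag, ← M_diag, M_mul, M_mul, mul_one, one_mul]
    congr 1
    funext j
    have h2 : π⁻¹ (π j) = j := π.symm_apply_apply j
    rw [Equiv.Perm.one_apply, h2, mul_comm]
  rw [h1, mul_assoc, ← Units.val_mul, mul_inv_cancel, Units.val_one, mul_one]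

/-- diagonal matrices of exponent `p` -/
def tor (ι F : Type*) [Fintype ι] [DecidableEq ι] [Field F] (p : ℕ) : Subgroup (Matrix.SpecialLinearGroup ι F) where
  carrier := {g | ∃ a : ι → F, (∀ i, a i ^ p = 1) ∧ (g : Matrix ι ι F) = Matrix.diagonal a}
  one_mem' := ⟨fun _ => 1, fun _ => one_pow p, by rw [Matrix.SpecialLinearGroup.coe_one, Matrix.diagonal_one]⟩
  mul_mem' := by
    rintro x y ⟨a, ha, hx⟩ ⟨b, hb, hy⟩
    refine ⟨fun i => a i * b i, fun i => by rw [mul_pow, ha, hb, one_mul], ?_⟩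
    rw [Matrix.SpecialLinearGroup.coe_mul, hx, hy, Matrix.diagonal_mul_diagonal]
  inv_mem' := by
    rintro x ⟨a, ha, hx⟩
    refine ⟨fun i => (a i)⁻¹, fun i => by rw [inv_pow, ha, inv_one], ?_⟩
    have h1 : (x : Matrix ι ι F) * ((x⁻¹ : Matrix.SpecialLinearGroup ι F) : Matrix ι ι F) = 1 := by
      rw [← Matrix.SpecialLinearGroup.coe_mul, mul_inv_cancel, Matrix.SpecialLinearGroup.coe_one]
    have h2 : (Matrix.diagonal fun i => (a i)⁻¹) * (x : Matrix ι ι F) = 1 := by
      rw [hx, Matrix.diagonal_mul_diagonal, ← Matrix.diagonal_one]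
      congr 1
      funext i
      refine inv_mul_cancel₀ ?_
      intro h
      have h3 := ha i
      rcases Nat.eq_zero_or_pos p with rfl | hp
      · have h4 : (x : Matrix ι ι F).det = 0 := by
          rw [hx, Matrix.det_diagonal]
          exact Finset.prod_eq_zero (Finset.mem_univ i) h
        rw [x.2] at h4
        exact one_ne_zero h4
      · rw [h, zero_pow hp.ne'] at h3
        exact zero_ne_one h3
    calc ((x⁻¹ : Matrix.SpecialLinearGroup ι F) : Matrix ι ι F)
        = ((Matrix.diagonal fun i => (a i)⁻¹) * (x : Matrix ι ι F)) *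
          ((x⁻¹ : Matrix.SpecialLinearGroup ι F) : Matrix ι ι F) := by rw [h2, one_mul]
      _ = _ := by rw [mul_assoc, h1, mul_one]

theorem isPGroup_tor {p : ℕ} : IsPGroup p ↥(tor ι F p) := by
  rintro ⟨g, a, ha, hg⟩
  refine ⟨1, ?_⟩
  apply Subtype.ext
  apply Subtype.ext
  change ((g ^ p ^ 1 : Matrix.SpecialLinearGroup ι F) : Matrix ι ι F) = 1
  rw [pow_one, Matrix.SpecialLinearGroup.coe_pow, hg, Matrix.diagonal_pow, ← Matrix.diagonal_one]
  congr 1
  funext i
  exact ha i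

/-- a permutation of `p'`-order fixing the diagonal matrices of exponent `p` modulo scalars is trivial -/
theorem eq_one_of_fix {p : ℕ} (hp : p.Prime) (hp2 : p ≠ 2) {ζ : F} (hζ : ζ ≠ 1) (hζp : ζ ^ p = 1)
    {π : Equiv.Perm ι} (hπ : ¬ p ∣ orderOf π)
    (h : ∀ a : ι → F, (∀ i, a i ^ p = 1) → ∏ i, a i = 1 → ∃ c : F, ∀ i, a i = c * a (π⁻¹ i)) : π = 1 := by
  have hζ0 : ζ ≠ 0 := by
    rintro rfl
    rw [zero_pow hp.ne_zero] at hζp
    exact zero_ne_one hζp
  by_contra hne
  obtain ⟨i, hi⟩ : ∃ i, π i ≠ i := by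
    by_contra hall
    push Not at hall
    exact hne (Equiv.ext hall)
  let a : ι → F := fun k => (Pi.mulSingle i ζ : ι → F) k * (Pi.mulSingle (π i) ζ⁻¹ : ι → F) k
  have ha : ∀ k, a k ^ p = 1 := by
    intro k
    change ((Pi.mulSingle i ζ : ι → F) k * (Pi.mulSingle (π i) ζ⁻¹ : ι → F) k) ^ p = 1
    rw [mul_pow, Pi.mulSingle_apply, Pi.mulSingle_apply]
    split_ifs <;> simp [hζp]
  have hprod : ∏ k, a k = 1 := by
    change ∏ k, ((Pi.mulSingle i ζ : ι → F) k * (Pi.mulSingle (π i) ζ⁻¹ : ι → F) k) = 1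
    rw [Finset.prod_mul_distrib, Finset.prod_pi_mulSingle', Finset.prod_pi_mulSingle']
    simp [hζ0]
  obtain ⟨c, hc⟩ := h a ha hprod
  have hc' : ∀ j, a (π j) = c * a j := by
    intro j
    have h1 := hc (π j)
    have h2 : π⁻¹ (π j) = j := π.symm_apply_apply j
    rwa [h2] at h1
  have hai : a i = ζ := by
    change (Pi.mulSingle i ζ : ι → F) i * (Pi.mulSingle (π i) ζ⁻¹ : ι → F) i = ζ
    rw [Pi.mulSingle_eq_same, Pi.mulSingle_eq_of_ne hi.symm, mul_one]
  have haπ : a (π i) = ζ⁻¹ := by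
    change (Pi.mulSingle i ζ : ι → F) (π i) * (Pi.mulSingle (π i) ζ⁻¹ : ι → F) (π i) = ζ⁻¹
    rw [Pi.mulSingle_eq_same, Pi.mulSingle_eq_of_ne hi, one_mul]
  have hm : ∀ m : ℕ, a ((π ^ m) i) = c ^ m * a i := by
    intro m
    induction m with
    | zero => simp
    | succ m ih => rw [pow_succ', Equiv.Perm.mul_apply, hc', ih, pow_succ', mul_assoc]
  have h1 := hm (orderOf π)
  rw [pow_orderOf_eq_one, Equiv.Perm.one_apply, hai] at h1
  have h2 : c ^ orderOf π = 1 := by
    have h3 : (c ^ orderOf π - 1) * ζ = 0 := by rw [sub_mul, ← h1, one_mul, sub_self]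
    rcases mul_eq_zero.1 h3 with h4 | h4
    · exact sub_eq_zero.1 h4
    · exact absurd h4 hζ0
  have h3 : c ^ p = 1 := by
    have h4 := congrArg (fun x => x ^ p) (hc' i)
    simp only [mul_pow, ha, mul_one] at h4
    exact h4.symm
  have hc1 : c = 1 := by
    have h4 : orderOf c ∣ orderOf π := orderOf_dvd_of_pow_eq_one h2
    have h5 : orderOf c ∣ p := orderOf_dvd_of_pow_eq_one h3
    have h6 : orderOf c = 1 := Nat.eq_one_of_dvd_coprimes ((Nat.Prime.coprime_iff_not_dvd hp).2 hπ) h5 h4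
    exact orderOf_eq_one_iff.1 h6
  have h4 := hc' i
  rw [hc1, one_mul, hai, haπ] at h4
  have h5 : ζ ^ 2 = 1 := by
    rw [pow_two]
    nth_rewrite 1 [← h4]
    exact inv_mul_cancel₀ hζ0
  have h6 : orderOf ζ ∣ 2 := orderOf_dvd_of_pow_eq_one h5
  have h7 : orderOf ζ ∣ p := orderOf_dvd_of_pow_eq_one hζp
  have h8 : Nat.Coprime 2 p := (Nat.coprime_primes Nat.prime_two hp).2 hp2.symm
  exact hζ (orderOf_eq_one_iff.1 (Nat.eq_one_of_dvd_coprimes h8 h6 h7))

end Gam

section Main

variable {F : Type*} [Field F] [Fintype F] {n p : ℕ} [hp : Fact p.Prime]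

/-- **`PSL_n(q)`, `p` odd dividing `q - 1`.** -/
theorem frames (hn : 2 ≤ n) (hp2 : p ≠ 2) (hpq : p ∣ Fintype.card F - 1)
    (hc : Subgroup.center (Matrix.ProjectiveSpecialLinearGroup (Fin n) F) = ⊥)
    (A : Subgroup (MulAut (Matrix.ProjectiveSpecialLinearGroup (Fin n) F))) (hA : IsPGroup p ↥A)
    (Q : Sylow p (Matrix.ProjectiveSpecialLinearGroup (Fin n) F))
    (hQ : (Q : Subgroup _).map MulAut.conj ≤ A) :
    ∃ h : Matrix.ProjectiveSpecialLinearGroup (Fin n) F, ¬ p ∣ orderOf h ∧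
      (∀ a ∈ A, MulAut.conj h * a * (MulAut.conj h)⁻¹ ∈ A) ∧ ∃ t ∈ (Q : Subgroup _), h * t * h⁻¹ ≠ t := by
  classical
  have hnt : Nontrivial (Fin n) := Fin.nontrivial_iff_two_le.2 hn
  -- a root of unity
  obtain ⟨ζ, hζ⟩ : ∃ ζ : Fˣ, orderOf ζ = p := by
    apply exists_prime_orderOf_dvd_card
    rw [Fintype.card_units]
    exact hpq
  have hζ1 : (ζ : F) ≠ 1 := by
    intro h
    have h1 : ζ = 1 := Units.ext h
    rw [h1, orderOf_one] at hζ
    exact hp.out.one_lt.ne hζ
  have hζp : (ζ : F) ^ p = 1 := by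
    rw [← Units.val_pow_eq_pow_val, ← hζ, pow_orderOf_eq_one, Units.val_one]
  let f : ↥(Hm (Fin n) F) →* ℤˣ := Equiv.Perm.sign.comp (perH (Fin n) F)
  let T : Subgroup (Matrix.ProjectiveSpecialLinearGroup (Fin n) F) := (tor (Fin n) F p).map pr
  refine cover_strong hc (Phi (Fin n) F) (Hm (Fin n) F) ?_ (K := ℤˣ) ?_ f ?_ T ?_ ?_ ?_ A hA ?_ Q hQ
  · rw [index_Hm]
    exact not_dvd_index hp2 hpq
  · have h1 : Nat.card ℤˣ = 2 := by rw [Nat.card_eq_fintype_card]; rfl
    rw [h1]
    intro h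
    exact hp2 ((Nat.prime_dvd_prime_iff_eq hp.out Nat.prime_two).1 h)
  · obtain ⟨i, j, hij⟩ := exists_pair_ne (Fin n)
    let d : Fin n → Fˣ := Pi.mulSingle i (-1)
    have hdet : (M (Equiv.swap i j) (fun k => (d k : F))).det = 1 := by
      rw [det_M, Equiv.Perm.sign_swap hij]
      have h1 : ∏ k, (d k : F) = -1 := by
        rw [← Units.coe_prod]
        change ((∏ k, (Pi.mulSingle i (-1) : Fin n → Fˣ) k : Fˣ) : F) = -1
        rw [Finset.prod_pi_mulSingle']
        simp
      rw [h1]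
      simp
    let s : Matrix.SpecialLinearGroup (Fin n) F := ⟨_, hdet⟩
    have hs : Matrix.SpecialLinearGroup.toGL s = mono (Equiv.swap i j) d := by
      apply Units.ext
      rfl
    have hmem : (⟨Matrix.SpecialLinearGroup.toGL s, 1⟩ : GamL (Fin n) F) ∈ Hm (Fin n) F := ⟨_, _, hs⟩
    refine ⟨⟨_, hmem⟩, ?_, ?_⟩
    · rw [Phi_inner]
      exact ⟨_, rfl⟩
    · change Equiv.Perm.sign (perH (Fin n) F ⟨_, hmem⟩) ≠ 1
      rw [perH_eq (π := Equiv.swap i j) (d := d) hs, Equiv.Perm.sign_swap hij]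
      decide
  · exact isPGroup_tor.map _
  · rintro w - _ ⟨g, ⟨a, ha, hg⟩, rfl⟩
    obtain ⟨d, hd⟩ := perH_spec w
    refine ⟨cj w.1.left (fld w.1.right g), ⟨fun i => w.1.right (a ((perH (Fin n) F w)⁻¹ i)), ?_, ?_⟩, ?_⟩
    · intro i
      rw [← map_pow, ha, map_one]
    · rw [hd]
      exact conj_diag _ _ _ hg
    · rw [Phi_apply]
      rfl
  · intro w hw hin hfw
    by_contra hcon
    push Not at hcon
    have hσ := right_eq_one hin
    obtain ⟨d, hd⟩ := perH_spec w
    apply hfw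
    change Equiv.Perm.sign (perH (Fin n) F w) = 1
    have h1 : perH (Fin n) F w = 1 := by
      apply eq_one_of_fix hp.out hp2 hζ1 hζp
      · intro h
        exact hw (h.trans (orderOf_map_dvd _ _))
      · intro a ha hprod
        let g : Matrix.SpecialLinearGroup (Fin n) F := ⟨Matrix.diagonal a, by rw [Matrix.det_diagonal, hprod]⟩
        have hgT : pr g ∈ T := ⟨g, ⟨a, ha, rfl⟩, rfl⟩
        have h2 := hcon _ hgT
        rw [Phi_apply, hσ, lift_pr] at h2
        have h3 : (((cj w.1.left * fld (1 : F ≃+* F) : MulAut (Matrix.SpecialLinearGroup (Fin n) F)) g :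
            Matrix.SpecialLinearGroup (Fin n) F) :
            Matrix (Fin n) (Fin n) F) = Matrix.diagonal (fun i => a ((perH (Fin n) F w)⁻¹ i)) := by
          rw [MulAut.mul_apply]
          have h4 := conj_diag (perH (Fin n) F w) d (1 : F ≃+* F) (g := g) (a := a) rfl
          rw [← hd] at h4
          exact h4
        obtain ⟨c, hc⟩ := exists_smul_of_pr_eq h2
        refine ⟨c, fun i => ?_⟩
        rw [h3] at hc
        have h5 := congrFun (congrFun hc i) i
        change Matrix.diagonal a i i = _ at h5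
        rw [Matrix.smul_apply, Matrix.diagonal_apply_eq, Matrix.diagonal_apply_eq, smul_eq_mul] at h5
        exact h5
    rw [h1, map_one]
  · intro x hx
    obtain ⟨k, hk⟩ := hA ⟨x, hx⟩
    have hk' : x ^ p ^ k = 1 := congrArg Subtype.val hk
    obtain ⟨B, σ, h⟩ := Cfsg.Agent.BpLin.exists_type hn ((hp.out.odd_of_ne_two hp2).pow) hk'
    exact ⟨⟨B, σ⟩, by rw [Phi_apply, h]⟩

end Main

end Cfsg.Agent.H507.GmnPSL
end

-- part: H507/GmnRows
section
/-!
# Rows `PSL_n(q)` and `PSp_{2m}(q)`, `p` odd not the characteristic (helper507)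

* `rowS_psl` : rows R4 and R5;
* `rowS_psp` : row R8.
-/

set_option autoImplicit false

namespace Cfsg.Agent.H507.GmnRows

open Cfsg Cfsg.Agent.H712.Gmn

/-- **`PSL_n(q)`.** -/
theorem rowS_psl {F : Type} [Field F] [Fintype F] {n p : ℕ} [hp : Fact p.Prime] (hn : 2 ≤ n) (hp2 : p ≠ 2)
    (hpF : (p : F) ≠ 0)
    (hc : Subgroup.center (Matrix.ProjectiveSpecialLinearGroup (Fin n) F) = ⊥)
    (hd : p ∣ Nat.card (Matrix.ProjectiveSpecialLinearGroup (Fin n) F)) :
    RowS p (Matrix.ProjectiveSpecialLinearGroup (Fin n) F) := by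
  by_cases hpq : p ∣ Fintype.card F - 1
  · intro A hA Q hQ
    exact GmnPSL.frames hn hp2 hpq hc A hA Q (by
      rintro _ ⟨x, hx, rfl⟩
      exact hQ x hx)
  · refine RowS.of_powConj hc hd fun z _ hz => ⟨Fintype.card F, GmnLinA.not_modEq Fintype.card_pos hpq, ?_⟩
    exact isConj_iff.2 (GmnLinA.conj_pow hp.out hpF hpq hz)

/-- **`PSp_{2m}(q)`.** -/
theorem rowS_psp {F : Type*} [Field F] [Fintype F] {m p : ℕ} [hp : Fact p.Prime] (hp2 : p ≠ 2)
    (hpF : (p : F) ≠ 0) (hc : Subgroup.center (PSp m F) = ⊥) (hd : p ∣ Nat.card (PSp m F)) : RowS p (PSp m F) :=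
  RowS.of_real hp2 hc hd fun _ _ hz => isConj_iff.2 (GmnSp.conj_inv hp.out hp2 hpF hz)

end Cfsg.Agent.H507.GmnRows
end
end

-- part: H712/GmnHN
section
set_option linter.all false
open scoped Cfsg.Agent.FastGrp

-- part: TwoGenNine/AltNine
section
/-!
# Groups generated by two families of 3-cycles

`alt_le` : a group of permutations of `Ω = A ∪ B`, `α ∈ A ∩ B`, containing all 3-cycles with points in `A` and
all 3-cycles with points in `B` (`|A|, |B| ≥ 3`) contains the alternating group.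

`exists_conj_alt` : permutations `σ`, `τ` conjugate in `Perm Ω`, `σ` commuting with an odd
permutation, are conjugate under the alternating group; `exists_conj_double` : double transpositions.
-/

set_option autoImplicit false

namespace Cfsg.Agent.TwoGenNine.AltNine

open Equiv Equiv.Perm

variable {Ω : Type*} [DecidableEq Ω]

variable [Fintype Ω]

/-- conjugacy under the alternating group -/
theorem exists_conj_alt {σ τ s : Perm Ω} (h : IsConj σ τ) (hs : s * σ = σ * s) (hsign : sign s = -1) :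
    ∃ g ∈ alternatingGroup Ω, g * σ * g⁻¹ = τ := by
  obtain ⟨g, hg⟩ := isConj_iff.mp h
  rcases Int.units_eq_one_or (sign g) with h1 | h1
  · exact ⟨g, h1, hg⟩
  · refine ⟨g * s, ?_, ?_⟩
    · rw [mem_alternatingGroup, Perm.sign_mul, h1, hsign]; rfl
    · calc g * s * σ * (g * s)⁻¹ = g * (s * σ) * s⁻¹ * g⁻¹ := by group
        _ = g * (σ * s) * s⁻¹ * g⁻¹ := by rw [hs]
        _ = g * σ * g⁻¹ := by group
        _ = τ := hg

end Cfsg.Agent.TwoGenNine.AltNine
end

-- part: H712/GmnHN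
section
/-!
# The row `p = 3` of the Harada-Norton group (helper712)

`nn_of_index` : a subgroup `H` with `p² ∤ |G : H|` all of whose elements of order `p` are real in `G` gives `NN p G`.
Applied to `A₁₂ ≤ HN` (`|HN|₃ = 3⁶`, `|A₁₂|₃ = 3⁵`).
-/

set_option autoImplicit false

open Subgroup

namespace Cfsg.Agent.H712.GmnHN

open Cfsg Cfsg.Agent.H711.Crit Cfsg.Agent.H712.Gmn

section

variable {p : ℕ} [hp : Fact p.Prime] {G : Type*} [Group G] [Finite G]

theorem nn_of_index (hp2 : p ≠ 2) (H : Subgroup G) (hd : p ∣ Nat.card H) (hi : ¬ p ^ 2 ∣ H.index)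
    (hreal : ∀ z ∈ H, orderOf z = p → IsConj z z⁻¹) : NN p G := by
  obtain ⟨P⟩ : Nonempty (Sylow p H) := inferInstance
  obtain ⟨w, hwP, hwo, hwc⟩ := exists_central P hd
  have hPp : IsPGroup p ((P : Subgroup H).map H.subtype) := P.isPGroup'.map _
  obtain ⟨Q, hQ⟩ := hPp.exists_le_sylow
  have hPc : Nat.card ((P : Subgroup H).map H.subtype) = Nat.card (P : Subgroup H) :=
    card_map_of_injective (subtype_injective _)
  have hne : ∀ z : G, orderOf z = p → z ≠ 1 := by
    intro z hz h0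
    rw [h0, orderOf_one] at hz
    exact hp.out.one_lt.ne hz
  -- the orders
  have hcard : Nat.card (Q : Subgroup G) ∣ p * Nat.card (P : Subgroup H) := by
    rw [Q.card_eq_multiplicity, P.card_eq_multiplicity, ← pow_succ']
    refine pow_dvd_pow p ?_
    rw [← H.card_mul_index, Nat.factorization_mul Nat.card_pos.ne' (index_ne_zero_of_finite), Finsupp.add_apply]
    have : H.index.factorization p < 2 := by
      by_contra h0
      push Not at h0
      exact hi ((pow_dvd_pow p h0).trans (Nat.ordProj_dvd _ _))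
    omega
  by_cases hA : ∀ c ∈ Q, (∀ y ∈ Q, y * c = c * y) → c ∈ (P : Subgroup H).map H.subtype
  · have hdG : p ∣ Nat.card G := hd.trans (card_subgroup_dvd_card H)
    obtain ⟨c, hcQ, hco, hcc⟩ := exists_central Q hdG
    obtain ⟨h, -, rfl⟩ := hA c hcQ hcc
    exact NN.of_real hp2 Q hcQ (hne _ hco) hcc (hreal _ h.2 hco)
  · push Not at hA
    obtain ⟨c, hcQ, hcc, hcP⟩ := hA
    have hwo' : orderOf (w : G) = p := by rw [orderOf_coe]; exact hwo
    have hwQ : (w : G) ∈ Q := hQ (mem_map_of_mem H.subtype hwP)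
    -- the centralizer of `w` in `Q`
    set K : Subgroup G := (Q : Subgroup G) ⊓ centralizer ({(w : G)} : Set G) with hK
    have hPK : (P : Subgroup H).map H.subtype ≤ K := by
      refine le_inf hQ ?_
      rintro _ ⟨x, hx, rfl⟩
      rw [mem_centralizer_singleton_iff]
      exact congrArg Subtype.val (hwc x hx)
    have hcK : c ∈ K := ⟨hcQ, mem_centralizer_singleton_iff.2 (hcc _ hwQ).symm⟩
    have hlt : (P : Subgroup H).map H.subtype < K := lt_of_le_of_ne hPK fun h0 => hcP (h0 ▸ hcK)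
    have hKQ : K = (Q : Subgroup G) := by
      refine eq_of_le_of_card_ge inf_le_left ?_
      have h1 : Nat.card (P : Subgroup H) ∣ Nat.card K := hPc ▸ card_dvd_of_le hPK
      obtain ⟨m, hm⟩ := h1
      obtain ⟨n, hn⟩ := (Q.isPGroup'.to_le (inf_le_left : K ≤ (Q : Subgroup G))).exists_card_eq
      have hm1 : m ≠ 1 := by
        rintro rfl
        apply hlt.ne
        refine eq_of_le_of_card_ge hPK ?_
        rw [hm, hPc, mul_one]
      have hpm : p ∣ m := by
        have h2 : m ∣ p ^ n := ⟨Nat.card (P : Subgroup H), by rw [← hn, hm, mul_comm]⟩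
        obtain ⟨k, -, hk⟩ := (Nat.dvd_prime_pow hp.out).1 h2
        rw [hk]
        refine dvd_pow_self p fun h0 => hm1 ?_
        rw [hk, h0, pow_zero]
      have h3 : p * Nat.card (P : Subgroup H) ∣ Nat.card K := by
        rw [hm, mul_comm]
        exact Nat.mul_dvd_mul_left _ hpm
      exact Nat.le_of_dvd Nat.card_pos (hcard.trans h3)
    refine NN.of_real hp2 Q hwQ (hne _ hwo') (fun x hx => ?_) (hreal _ w.2 hwo')
    have hx' : x ∈ K := by rw [hKQ]; exact hx
    exact mem_centralizer_singleton_iff.1 hx'.2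

end

/-! ### elements of order 3 of `A₁₂` -/

section

open Equiv Equiv.Perm

/-- representatives, and odd elements commuting with them -/
def rep : ℕ → Perm (Fin 12)
  | 0 => [0, 1, 2].formPerm
  | 1 => [0, 1, 2].formPerm * [3, 4, 5].formPerm
  | 2 => [0, 1, 2].formPerm * [3, 4, 5].formPerm * [6, 7, 8].formPerm
  | _ => [0, 1, 2].formPerm * [3, 4, 5].formPerm * [6, 7, 8].formPerm * [9, 10, 11].formPerm

def odd : ℕ → Perm (Fin 12)
  | 0 => swap (3 : Fin 12) 4
  | 1 => swap (6 : Fin 12) 7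
  | 2 => swap (9 : Fin 12) 10
  | _ => swap (0 : Fin 12) 3 * swap (1 : Fin 12) 4 * swap (2 : Fin 12) 5

theorem rep_type : ∀ n < 4, (rep n).cycleType = Multiset.replicate (n + 1) 3 := by decide +kernel

theorem rep_comm : ∀ n < 4, odd n * rep n = rep n * odd n := by decide +kernel

theorem odd_sign : ∀ n < 4, sign (odd n) = -1 := by decide +kernel

theorem real_alt {x : Perm (Fin 12)} (hx : orderOf x = 3) : ∃ g ∈ alternatingGroup (Fin 12), g * x * g⁻¹ = x⁻¹ := by
  obtain ⟨n, hn⟩ := cycleType_prime_order (σ := x) (by rw [hx]; exact Nat.prime_three)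
  rw [hx] at hn
  have h2 : x.cycleType.sum ≤ Fintype.card (Fin 12) := by
    rw [sum_cycleType]
    exact Finset.card_le_univ _
  rw [hn, Multiset.sum_replicate, Fintype.card_fin, smul_eq_mul] at h2
  have hn4 : n < 4 := by omega
  have h3 : IsConj (rep n) x := by rw [isConj_iff_cycleType_eq, hn, rep_type n hn4]
  obtain ⟨c, hc⟩ := isConj_iff.1 h3
  have h4 : IsConj x x⁻¹ := by rw [isConj_iff_cycleType_eq, cycleType_inv]
  refine Cfsg.Agent.TwoGenNine.AltNine.exists_conj_alt (s := c * odd n * c⁻¹) h4 ?_ ?_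
  · rw [← hc]
    calc c * odd n * c⁻¹ * (c * rep n * c⁻¹) = c * (odd n * rep n) * c⁻¹ := by group
      _ = c * (rep n * odd n) * c⁻¹ := by rw [rep_comm n hn4]
      _ = _ := by group
  · rw [map_mul, map_mul, odd_sign n hn4, map_inv]
    rcases Int.units_eq_one_or (sign c) with h | h <;> rw [h] <;> rfl

end

theorem nn_hn : NN 3 Spor.HN := by
  have hp3 : Fact (Nat.Prime 3) := ⟨Nat.prime_three⟩
  have hc : Nat.card Spor.HN = 273030912000000 := NotCT.Orders.hn ⟨MulEquiv.refl _⟩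
  have hfin : Finite Spor.HN := Nat.finite_of_card_ne_zero (by rw [hc]; norm_num)
  have hs : IsSimpleGroup Spor.HN := Cfsg.Agent.S1701.result.1
  have hcr : Nat.card (CpAutHN.Alt.Φ).range = 239500800 := by
    rw [← Nat.card_congr (MonoidHom.ofInjective CpAutHN.Alt.Φ_inj).toEquiv, nat_card_alternatingGroup,
      Nat.card_eq_fintype_card, Fintype.card_fin]
    decide
  refine nn_of_index (by norm_num) (CpAutHN.Alt.Φ).range (by rw [hcr]; norm_num) ?_ ?_
  · have h1 := (CpAutHN.Alt.Φ).range.card_mul_index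
    rw [hcr, hc] at h1
    have h2 : (CpAutHN.Alt.Φ).range.index = 1140000 := by omega
    rw [h2]
    norm_num
  · rintro _ ⟨x, rfl⟩ hz
    rw [orderOf_injective _ CpAutHN.Alt.Φ_inj] at hz
    obtain ⟨g, hg, h⟩ := real_alt (x := (x : Equiv.Perm (Fin 12))) (by rw [orderOf_coe]; exact hz)
    refine isConj_iff.2 ⟨CpAutHN.Alt.Φ ⟨g, hg⟩, ?_⟩
    rw [← map_mul, ← map_inv, ← map_mul, ← map_inv]
    exact congrArg _ (Subtype.ext h)

universe u

theorem hn {K : Type u} [Group K] [IsSimpleGroup K] (h : Spor.IsoHN K) : RowS 3 K := by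
  have : Fact (Nat.Prime 3) := ⟨Nat.prime_three⟩
  have hc : Nat.card Spor.HN = 273030912000000 := NotCT.Orders.hn ⟨MulEquiv.refl _⟩
  have hfin : Finite Spor.HN := Nat.finite_of_card_ne_zero (by rw [hc]; norm_num)
  have hs : IsSimpleGroup Spor.HN := Cfsg.Agent.S1701.result.1
  obtain ⟨e⟩ := h
  refine (rowS_of_NN (H711.RowCount.center_eq_bot (by rw [hc]; norm_num)) ?_ nn_hn).congr e.symm
  intro h0
  have h1 : 3 ∣ Nat.card (Out Spor.HN) := h0
  rw [S2082.result] at h1
  norm_num at h1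

end Cfsg.Agent.H712.GmnHN
end
end
end
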