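import Mathlib
import Cfsg.Agent.H506.PiHomog
import Cfsg.Agent.S0023
set_option linter.all false

/-!
# Extensions of `π'`-closed groups in `π`-homogeneous groups

`PHomog π G`: for `p ∈ π`, every `π'`-element normalizing a `p`-subgroup centralizes it. This weak form
of `π`-homogeneity passes to quotients (by all normal subgroups) by Sylow's theorem alone, so the odd order theorem
is not needed here.

Main result `closedPr_of_extension`: `G` with `PHomog π G`, `K` normal, `K` and `G ⧸ K` `π'`-closed,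
then `G` is `π'`-closed.
-/

set_option autoImplicit false

namespace Cfsg.Agent.H507.PiExt

open Subgroup Cfsg.Agent.H506.PiHomog
open scoped Pointwise

universe u

/-- `π'`-elements normalizing a `p`-subgroup, `p ∈ π`, centralize it. -/
def PHomog (π : Set ℕ) (G : Type*) [Group G] : Prop :=
  ∀ p : ℕ, p.Prime → p ∈ π → ∀ H : Subgroup G, IsPGroup p H → ∀ g ∈ normalizer (H : Set G),
    PiNum πᶜ (orderOf g) → ∀ h ∈ H, g * h = h * g

theorem PHomog.of_homog {π : Set ℕ} {G : Type*} [Group G] [Finite G] (h : Homog π G) :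
    PHomog π G := by
  intro p hp hpπ H hH g hg ho x hx
  refine h H ?_ g hg ho x hx
  have : Fact p.Prime := ⟨hp⟩
  obtain ⟨n, hn⟩ := IsPGroup.iff_card.mp hH
  intro q hq hqd
  rw [hn] at hqd
  rwa [(Nat.prime_dvd_prime_iff_eq hq hp).1 (hq.dvd_of_dvd_pow hqd)]

theorem mem_normalizer_of_forall {G : Type*} [Group G] [Finite G] {H : Subgroup G} {g : G}
    (h : ∀ y ∈ H, g * y * g⁻¹ ∈ H) : g ∈ normalizer (H : Set G) := by
  have hle : H.map (MulAut.conj g).toMonoidHom = H := by
    refine Subgroup.eq_of_le_of_card_ge ?_ ?_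
    · rintro _ ⟨y, hy, rfl⟩
      exact h y hy
    · rw [Subgroup.card_map_of_injective (f := (MulAut.conj g).toMonoidHom) (MulAut.conj g).injective]
  rw [Subgroup.mem_normalizer_iff]
  intro y
  refine ⟨h y, fun hy => ?_⟩
  rw [← hle] at hy
  obtain ⟨z, hz, hzy⟩ := hy
  have h5 : MulAut.conj g z = MulAut.conj g y := hzy
  rw [← (MulAut.conj g).injective h5]
  exact hz

theorem PHomog.subgroup {π : Set ℕ} {G : Type*} [Group G] [Finite G] (h : PHomog π G)
    (K : Subgroup G) : PHomog π K := by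
  intro p hp hpπ H hH g hg ho x hx
  have h1 : IsPGroup p (H.map K.subtype) := hH.map _
  have h2 : (g : G) ∈ normalizer ((H.map K.subtype : Subgroup G) : Set G) := by
    apply mem_normalizer_of_forall
    rintro _ ⟨z, hz, rfl⟩
    exact ⟨g * z * g⁻¹, (Subgroup.mem_normalizer_iff.1 hg z).1 hz, by simp⟩
  have h3 := h p hp hpπ _ h1 g h2 (by rwa [Subgroup.orderOf_coe]) x ⟨x, hx, rfl⟩
  exact Subtype.ext h3

/-- Frattini argument: `P` a Sylow `p`-subgroup of `S`, `x` normalizes `S`. Then some element of `S x`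
normalizes `P`. -/
theorem exists_mem_normalizer {G : Type*} [Group G] [Finite G] {p : ℕ} [Fact p.Prime]
    (S : Subgroup G) (P : Sylow p S) {x : G} (hx : x ∈ normalizer (S : Set G)) :
    ∃ s ∈ S, s * x ∈ normalizer (((P : Subgroup S).map S.subtype : Subgroup G) : Set G) := by
  -- conjugation by `x` as an automorphism of `S`
  let φ : MulAut S := S.normalizerMonoidHom ⟨x, hx⟩
  have hφ : ∀ s : S, ((φ s : S) : G) = x * s * x⁻¹ := fun s => rfl
  obtain ⟨s, hs⟩ := MulAction.exists_smul_eq S (φ • P) P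
  refine ⟨s, s.2, ?_⟩
  apply mem_normalizer_of_forall
  rintro _ ⟨y, hy, rfl⟩
  have h1 : φ y ∈ (φ • P : Sylow p S) := by
    have : φ • y ∈ φ • (P : Subgroup S) := Subgroup.smul_mem_pointwise_smul _ _ _ hy
    exact this
  have h2 : s * φ y * s⁻¹ ∈ (P : Subgroup S) := by
    rw [← hs]
    have : MulAut.conj s • (φ y) ∈ MulAut.conj s • ((φ • P : Sylow p S) : Subgroup S) :=
      Subgroup.smul_mem_pointwise_smul _ _ _ h1
    exact this
  refine ⟨_, h2, ?_⟩
  simp only [Subgroup.coe_subtype, Subgroup.coe_mul, Subgroup.coe_inv, hφ, mul_inv_rev]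
  group

/-- The weak form of homogeneity passes to quotients. -/
theorem PHomog.quotient {π : Set ℕ} {G : Type*} [Group G] [Finite G] (hG : PHomog π G)
    (N : Subgroup G) [N.Normal] : PHomog π (G ⧸ N) := by
  intro p hp hpπ H hH q hq ho x hx
  have : Fact p.Prime := ⟨hp⟩
  set f : G →* G ⧸ N := QuotientGroup.mk' N with hf
  have hfs : Function.Surjective f := QuotientGroup.mk'_surjective N
  set S : Subgroup G := H.comap f with hS
  -- the surjection `S → H`
  let f0 : S →* H := (f.comp S.subtype).codRestrict H (fun s => s.2)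
  have hf0 : Function.Surjective f0 := by
    rintro ⟨y, hy⟩
    obtain ⟨g, hg⟩ := hfs y
    exact ⟨⟨g, by rw [hS, Subgroup.mem_comap, hg]; exact hy⟩, Subtype.ext hg⟩
  let P : Sylow p S := default
  have hPtop : ((P.mapSurjective hf0 : Sylow p H) : Subgroup H) = ⊤ := by
    refine ((P.mapSurjective hf0).is_maximal' (Q := ⊤) ?_ le_top).symm
    exact hH.of_equiv (Subgroup.topEquiv (G := H)).symm
  set P' : Subgroup G := (P : Subgroup S).map S.subtype with hP'
  have hcov : ∀ y ∈ H, ∃ z ∈ P', f z = y := by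
    intro y hy
    have h1 : (⟨y, hy⟩ : H) ∈ ((P.mapSurjective hf0 : Sylow p H) : Subgroup H) := by
      rw [hPtop]; trivial
    rw [Sylow.coe_mapSurjective] at h1
    obtain ⟨z, hz, hzy⟩ := h1
    exact ⟨z, ⟨z, hz, rfl⟩, congrArg Subtype.val hzy⟩
  obtain ⟨g, hg⟩ := hfs q
  have hgS : g ∈ normalizer (S : Set G) := mem_normalizer_comap (by rw [← hf, hg]; exact hq)
  obtain ⟨s, hs, hsg⟩ := exists_mem_normalizer S P hgS
  obtain ⟨y, hy, hys⟩ := hcov (f s) hs
  have h1 : y⁻¹ * (s * g) ∈ normalizer (P' : Set G) :=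
    Subgroup.mul_mem _ (Subgroup.inv_mem _ (Subgroup.le_normalizer hy)) hsg
  have h2 : f (y⁻¹ * (s * g)) = q := by
    rw [map_mul, map_mul, map_inv, hys, hg]; group
  obtain ⟨g2, hg2, hg2o⟩ := exists_lift (f.comp (normalizer (P' : Set G)).subtype) q ho
    ⟨⟨_, h1⟩, h2⟩
  have h3 := hG p hp hpπ P' (P.isPGroup'.map _) g2 g2.2 (by rwa [Subgroup.orderOf_coe])
  obtain ⟨z, hz, hzx⟩ := hcov x hx
  have hg2' : f (g2 : G) = q := hg2
  rw [← hzx, ← hg2', ← map_mul, h3 z hz, map_mul]

/-- A `π'`-element centralizes every normal `π`-subgroup. -/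
theorem PHomog.centralizes {π : Set ℕ} {G : Type*} [Group G] [Finite G] (hG : PHomog π G)
    (Y : Subgroup G) (hY : PiNum π (Nat.card Y)) (x : G) (hx : PiNum πᶜ (orderOf x))
    (hxY : x ∈ normalizer (Y : Set G)) :
    ∀ y ∈ Y, x * y = y * x := by
  set C : Subgroup Y := (centralizer ({x} : Set G)).subgroupOf Y with hC
  have hCi : C.index = 1 := by
    by_contra hne
    obtain ⟨p, hp, hpd⟩ := Nat.exists_prime_and_dvd hne
    have : Fact p.Prime := ⟨hp⟩
    have hpY : p ∣ Nat.card Y := hpd.trans (Subgroup.index_dvd_card C)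
    have hpπ : p ∈ π := hY p hp hpY
    have hcop : (Nat.card (zpowers x)).Coprime (Nat.card Y) := by
      rw [Nat.card_zpowers]
      exact PiNum.coprime' hx hY
    obtain ⟨P, hP⟩ := Cfsg.Agent.S0023.result (zpowers x) Y (by
      rw [Subgroup.zpowers_le]; exact hxY) hcop (Or.inl inferInstance) p
    have h1 := hG p hp hpπ _ (P.isPGroup'.map Y.subtype) x (hP (mem_zpowers x)) hx
    have h2 : (P : Subgroup Y) ≤ C := by
      intro y hy
      rw [hC, Subgroup.mem_subgroupOf, Subgroup.mem_centralizer_iff]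
      intro z hz
      rw [Set.mem_singleton_iff] at hz
      subst hz
      exact h1 y ⟨y, hy, rfl⟩
    have h3 : C.index ∣ (P : Subgroup Y).index := Subgroup.index_dvd_of_le h2
    exact P.not_dvd_index (hpd.trans h3)
  rw [Subgroup.index_eq_one] at hCi
  intro y hy
  have h1 : (⟨y, hy⟩ : Y) ∈ C := by rw [hCi]; trivial
  rw [hC, Subgroup.mem_subgroupOf, Subgroup.mem_centralizer_iff] at h1
  exact h1 x rfl

/-- A finite group with a normal Hall `π`-subgroup centralized by all `π'`-elements is `π'`-closed. -/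
theorem closedPr_of_hall {π : Set ℕ} {G : Type*} [Group G] [Finite G] (Y : Subgroup G) [Y.Normal]
    (hY : PiNum π (Nat.card Y)) (hYi : PiNum πᶜ Y.index)
    (hc : ∀ x : G, PiNum πᶜ (orderOf x) → ∀ y ∈ Y, x * y = y * x) : ClosedPr π G := by
  have hcop : (Nat.card Y).Coprime Y.index := PiNum.coprime hY hYi
  obtain ⟨K0, hK0⟩ := Subgroup.exists_right_complement'_of_coprime hcop
  have hK0c : PiNum πᶜ (Nat.card K0) := by
    rw [← hK0.symm.index_eq_card]; exact hYi
  have hKn : K0.Normal := by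
    refine ⟨fun y hy x => ?_⟩
    obtain ⟨⟨n, k⟩, hnk⟩ := hK0.2 x
    have hx : x = (n : G) * (k : G) := hnk.symm
    have hk : (k : G) * y * (k : G)⁻¹ ∈ K0 := K0.mul_mem (K0.mul_mem k.2 hy) (K0.inv_mem k.2)
    have h2 := hc _ (piNum_orderOf_of_mem hK0c hk) n n.2
    have h1 : x * y * x⁻¹ = (k : G) * y * (k : G)⁻¹ := by
      have : x * y * x⁻¹ = (n : G) * ((k : G) * y * (k : G)⁻¹) * (n : G)⁻¹ := by rw [hx]; group
      rw [this, ← h2]; group
    rw [h1]
    exact hk
  refine closedPr_of_normal K0 hK0c ?_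
  rw [hK0.index_eq_card]
  exact hY

/-- Extension by a normal `π`-subgroup. -/
theorem closedPr_of_quotient_pi {π : Set ℕ} {G : Type*} [Group G] [Finite G] (hG : PHomog π G)
    (Y : Subgroup G) [Y.Normal] (hY : PiNum π (Nat.card Y)) (h : ClosedPr π (G ⧸ Y)) :
    ClosedPr π G := by
  obtain ⟨M', hMc, hM1, hM2, hM3⟩ := exists_normal_of_closedPr h
  set M := M'.comap (QuotientGroup.mk' Y) with hM
  have hYM : Y ≤ M := by
    intro k hk
    have h1 : QuotientGroup.mk' Y k = 1 := (QuotientGroup.eq_one_iff (N := Y) k).2 hk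
    rw [hM, Subgroup.mem_comap, h1]
    exact M'.one_mem
  refine closedPr_of_subgroup M (fun x hx => ?_) ?_
  · rw [hM, Subgroup.mem_comap, hM3]
    exact hx.mono (orderOf_map_dvd _ _)
  have hcardY : Nat.card (Y.subgroupOf M) = Nat.card Y :=
    Nat.card_congr (Subgroup.subgroupOfEquivOfLe hYM).toEquiv
  have hcardM : Nat.card M = Nat.card Y * Nat.card M' := card_comap_mk Y M'
  have hidx : (Y.subgroupOf M).index = Nat.card M' := by
    have h1 := Subgroup.card_mul_index (Y.subgroupOf M)
    rw [hcardY, hcardM] at h1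
    exact Nat.eq_of_mul_eq_mul_left Nat.card_pos h1
  refine closedPr_of_hall (Y.subgroupOf M) (by rwa [hcardY]) (by rwa [hidx]) ?_
  intro x hx y hy
  refine (hG.subgroup M).centralizes (Y.subgroupOf M) (by rwa [hcardY]) x hx ?_ y hy
  rw [Subgroup.normalizer_eq_top]
  trivial

/-- **Extension theorem.** -/
theorem closedPr_of_extension {π : Set ℕ} {G : Type*} [Group G] [Finite G] (hG : PHomog π G)
    (K : Subgroup G) [hKn : K.Normal] (hK : ClosedPr π K) (hQ : ClosedPr π (G ⧸ K)) :
    ClosedPr π G := by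
  obtain ⟨N0, hN0c, hN1, hN2, -⟩ := exists_normal_of_closedPr hK
  set N : Subgroup G := N0.map K.subtype with hN
  have hNn : N.Normal := ConjAct.normal_of_characteristic_of_normal
  have hNK : N ≤ K := Subgroup.map_subtype_le N0
  have hNcard : Nat.card N = Nat.card N0 := Subgroup.card_map_of_injective K.subtype_injective
  have hNπ : PiNum πᶜ (Nat.card N) := by rwa [hNcard]
  refine closedPr_of_quotient N hNπ ?_
  have hYn : (K.map (QuotientGroup.mk' N)).Normal := hKn.map _ (QuotientGroup.mk'_surjective N)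
  refine closedPr_of_quotient_pi (hG.quotient N) (K.map (QuotientGroup.mk' N)) ?_ ?_
  · have h1 : Nat.card (K.map (QuotientGroup.mk' N)) = N.relIndex K := by
      have h1 := Subgroup.relIndex_ker (K := K) (QuotientGroup.mk' N)
      rwa [QuotientGroup.ker_mk', eq_comm] at h1
    rw [h1]
    have h2 : N.relIndex K = N0.index := by
      have h3 : Nat.card N * N.relIndex K = Nat.card K := by
        have := Subgroup.relIndex_mul_relIndex ⊥ N K bot_le hNK
        rwa [Subgroup.relIndex_bot_left, Subgroup.relIndex_bot_left] at this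
      have h4 := N0.card_mul_index
      rw [hNcard, ← h4] at h3
      exact Nat.eq_of_mul_eq_mul_left Nat.card_pos h3
    rwa [h2]
  · exact ClosedPr.of_mulEquiv (QuotientGroup.quotientQuotientEquivQuotient N K hNK).symm hQ

end Cfsg.Agent.H507.PiExt
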